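import Groth.Prelude.Def_HensSch
import Groth.Agent.Lib.HfpH6.Limits
import Mathlib

/-! # Henselizations along basic opens

Basic properties of `HensSch.IsHensAway` in terms of algebra structures.
-/

set_option autoImplicit false
universe u v

namespace Groth.Agent.HensGlue6

open Groth.Agent.Hens Groth.Agent.HfpH6

/-- `P` is the henselization of `(H_g, I H_g)`. -/
abbrev IsAway {H : Type u} [CommRing H] (I : Ideal H) (g : H) (P : Type u) [CommRing P]
    [Algebra H P] : Prop :=
  HensSch.IsHensAway H I g P (algebraMap H P)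

variable {H : Type u} [CommRing H] {I : Ideal H} {g : H} {P : Type u} [CommRing P] [Algebra H P]

theorem IsAway.exists_algHom (hP : IsAway I g P) {C : Type u} [CommRing C] [Algebra H C] {J : Ideal C}
    (hC : HenselianRing C J) (hI : I.map (algebraMap H C) ≤ J) (hg : IsUnit (algebraMap H C g)) :
    Nonempty (P →ₐ[H] C) := by
  obtain ⟨h, hh, -⟩ := hP.2.2 C J (algebraMap H C) hC hI hg
  exact ⟨{ h with commutes' := fun x => congr($hh x) }⟩

theorem IsAway.exists_pair (hP : IsAway I g P) :
    ∃ (_ : Algebra (Localization.Away g) P) (_ : IsScalarTower H (Localization.Away g) P),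
      Hens2.IsPairHenselization (Localization.Away g)
        (I.map (algebraMap H (Localization.Away g))) P := by
  let L := Localization.Away g
  let a : L →+* P := IsLocalization.Away.lift g hP.1
  let _ : Algebra L P := a.toAlgebra
  have : IsScalarTower H L P :=
    IsScalarTower.of_algebraMap_eq' (IsLocalization.Away.lift_comp g hP.1).symm
  refine ⟨inferInstance, inferInstance, ?_, fun C _ J f hC hf => ?_⟩
  · rw [map_map_of_tower]; exact hP.2.1
  rw [Ideal.map_map] at hf
  obtain ⟨h, hh, hu⟩ := hP.2.2 C J (f.comp (algebraMap H L)) hC hf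
    ((IsLocalization.Away.algebraMap_isUnit g).map f)
  refine ⟨h, IsLocalization.ringHom_ext (Submonoid.powers g) ?_, fun h' hh' => hu h' ?_⟩
  · rw [RingHom.comp_assoc, ← IsScalarTower.algebraMap_eq]; exact hh
  · rw [← hh', RingHom.comp_assoc, ← IsScalarTower.algebraMap_eq]

theorem isAway_of_pair [Algebra (Localization.Away g) P] [IsScalarTower H (Localization.Away g) P]
    (hP : Hens2.IsPairHenselization (Localization.Away g)
      (I.map (algebraMap H (Localization.Away g))) P) : IsAway I g P := by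
  let L := Localization.Away g
  refine ⟨?_, ?_, fun C _ J f hC hf hu => ?_⟩
  · rw [IsScalarTower.algebraMap_apply H L P]
    exact (IsLocalization.Away.algebraMap_isUnit g).map _
  · have := hP.1
    rwa [map_map_of_tower] at this
  obtain ⟨h, hh, huniq⟩ := hP.2 C J (IsLocalization.Away.lift g hu) hC (by
    rw [Ideal.map_map, IsLocalization.Away.lift_comp]; exact hf)
  refine ⟨h, ?_, fun h' hh' => huniq h' (IsLocalization.ringHom_ext (Submonoid.powers g) ?_)⟩
  · show h.comp (algebraMap H P) = f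
    rw [IsScalarTower.algebraMap_eq H L P, ← RingHom.comp_assoc, hh, IsLocalization.Away.lift_comp]
  · rw [RingHom.comp_assoc, ← IsScalarTower.algebraMap_eq, IsLocalization.Away.lift_comp]; exact hh'

theorem IsAway.algHom_eq (hP : IsAway I g P) {C : Type u} [CommRing C] [Algebra H C]
    (hI : I.map (algebraMap H C) ≤ Ideal.jacobson ⊥) (f f' : P →ₐ[H] C) : f = f' := by
  obtain ⟨_, _, hp⟩ := hP.exists_pair
  let L := Localization.Away g
  let _ : Algebra L C := (f.toRingHom.comp (algebraMap L P)).toAlgebra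
  have he : f'.toRingHom.comp (algebraMap L P) = algebraMap L C :=
    IsLocalization.ringHom_ext (Submonoid.powers g) (RingHom.ext fun x => by
      show f' (algebraMap L P (algebraMap H L x)) = f (algebraMap L P (algebraMap H L x))
      rw [← IsScalarTower.algebraMap_apply, f.commutes, f'.commutes])
  let F : P →ₐ[L] C := { f.toRingHom with commutes' := fun x => rfl }
  let F' : P →ₐ[L] C := { f'.toRingHom with commutes' := fun x => congr($he x) }
  have hJ : (I.map (algebraMap H L)).map (algebraMap L C) ≤ Ideal.jacobson ⊥ := by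
    rw [Ideal.map_map, show (algebraMap L C).comp (algebraMap H L) = algebraMap H C from
      RingHom.ext fun x => by
        show f (algebraMap L P (algebraMap H L x)) = _
        rw [← IsScalarTower.algebraMap_apply, f.commutes]]
    exact hI
  exact AlgHom.ext fun x => congr($(algHom_eq_of_jac hp hJ F F') x)

theorem IsAway.flat (hP : IsAway I g P) : Module.Flat H P := by
  obtain ⟨_, _, hp⟩ := hP.exists_pair
  have := IsPairHenselization.flat hp
  have : Module.Flat H (Localization.Away g) := IsLocalization.flat _ (Submonoid.powers g)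
  exact Module.Flat.trans H (Localization.Away g) P

theorem IsAway.exists_nbhd (hP : IsAway I g P) (x : P) :
    ∃ (S : Type u) (_ : CommRing S) (_ : Algebra H S) (_ : Algebra.Etale H S) (κ : S →ₐ[H] P),
      x ∈ Set.range κ ∧
      (∀ y : S, ∃ (a : H) (n : ℕ),
        y * algebraMap H S g ^ n - algebraMap H S a ∈ I.map (algebraMap H S)) ∧
      ∀ y : S, κ y = 0 → ∃ (S' : Type u) (_ : CommRing S') (_ : Algebra H S')
        (_ : Algebra.Etale H S') (φ : S →ₐ[H] S') (κ' : S' →ₐ[H] P), κ'.comp φ = κ ∧ φ y = 0 := by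
  classical
  obtain ⟨_, _, hp⟩ := hP.exists_pair
  let L := Localization.Away g
  let J := I.map (algebraMap H L)
  obtain ⟨e⟩ := exists_pairHenselization_equiv J P hp
  obtain ⟨i, hi⟩ := SmoothAlgLift6.exists_nbhd_of_finset {x} fun x => e.symm x
  obtain ⟨y, hy⟩ := hi x (Finset.mem_singleton_self x)
  haveI : Algebra.Etale H L := Algebra.Etale.of_isLocalizationAway g
  have het : ∀ j : PNbhd J, Algebra.Etale H j.S := fun j => Algebra.Etale.comp H L j.S
  have := het i
  let κ : ∀ j : PNbhd J, j.S →ₐ[H] P := fun j =>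
    ((e.toAlgHom.comp (PHs.of j)).comp (IsScalarTower.toAlgHom L j.S j.G)).restrictScalars H
  refine ⟨i.S, inferInstance, inferInstance, het i, κ i, ⟨y, ?_⟩, fun y' => ?_, fun y' hy' => ?_⟩
  · show e (PHs.of i (algebraMap i.S i.G y)) = x
    rw [hy]; exact e.apply_symm_apply x
  · obtain ⟨l, hl⟩ := Ideal.Quotient.mk_surjective (i.σ y')
    obtain ⟨n, a, ha⟩ := IsLocalization.Away.surj g l
    refine ⟨a, n, ?_⟩
    rw [IsScalarTower.algebraMap_apply H L i.S g, IsScalarTower.algebraMap_apply H L i.S a,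
      ← map_map_of_tower (R := L), ← i.ker_σ, RingHom.mem_ker, map_sub, map_mul, map_pow,
      AlgHom.commutes, AlgHom.commutes, ← hl, ← ha, map_mul, map_pow]
    simp [J, L, Ideal.Quotient.algebraMap_eq]
  · obtain ⟨j, φ, hφ⟩ := PHs.exists_eq_zero i y' (e.injective (hy'.trans (map_zero e).symm))
    refine ⟨j.S, inferInstance, inferInstance, het j, φ.restrictScalars H, κ j,
      AlgHom.ext fun z => ?_, hφ⟩
    show e (PHs.of j (algebraMap j.S j.G (φ z))) = e (PHs.of i (algebraMap i.S i.G z))
    rw [show PHs.of j (algebraMap j.S j.G (φ z)) = PHs.of i (algebraMap i.S i.G z) from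
      congr($(PHs.algHom_eq i ((PHs.of j).comp ((IsScalarTower.toAlgHom L j.S j.G).comp φ))
        ((PHs.of i).comp (IsScalarTower.toAlgHom L i.S i.G))) z)]

/-- Flatness: divisibility by an element is detected by the colon ideal. -/
theorem mem_colon_map {Q : Type u} [CommRing Q] [Algebra H Q] [Module.Flat H Q] (J : Ideal H)
    (a : H) (z : Q) (hz : algebraMap H Q a * z ∈ J.map (algebraMap H Q)) :
    z ∈ (J.colon {a}).map (algebraMap H Q) := by
  classical
  rw [Ideal.map, Ideal.span, Submodule.mem_span_set'] at hz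
  obtain ⟨n, c, j, hj⟩ := hz
  choose j₀ hj₀ hj₀' using fun k => (j k).2
  let f : Option (Fin n) → H := fun o => o.elim a fun k => - j₀ k
  let x : Option (Fin n) → Q := fun o => o.elim z c
  have hrel : ∑ o, f o • x o = 0 := by
    rw [Fintype.sum_option]
    simp only [f, x, Option.elim, neg_smul, Finset.sum_neg_distrib, Algebra.smul_def, hj₀']
    rw [← hj]
    simp [mul_comm, smul_eq_mul, hj₀']
  obtain ⟨k, A, y, hx, hA⟩ := Module.Flat.isTrivialRelation_of_sum_smul_eq_zero (R := H) (M := Q) (f := f) (x := x) hrel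
  have hzy : z = ∑ l, A none l • y l := hx none
  rw [hzy]
  refine Ideal.sum_mem _ fun l _ => ?_
  rw [Algebra.smul_def]
  refine Ideal.mul_mem_right _ _ (Ideal.mem_map_of_mem _ ?_)
  rw [Submodule.mem_colon_singleton, smul_eq_mul]
  have h := hA l
  rw [Fintype.sum_option] at h
  simp only [f, Option.elim, neg_mul, Finset.sum_neg_distrib, add_neg_eq_zero] at h
  rw [mul_comm, h]
  exact Ideal.sum_mem _ fun o _ => Ideal.mul_mem_right _ _ (hj₀ o)

theorem IsAway.map_ne_top (hP : IsAway I g P) (m : Ideal H) [m.IsMaximal] (hI : I ≤ m) (hg : g ∉ m) :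
    m.map (algebraMap H P) ≠ ⊤ := by
  let _ := Ideal.Quotient.field m
  have hbot : I.map (algebraMap H (H ⧸ m)) ≤ ⊥ := Ideal.map_le_iff_le_comap.mpr fun a ha => by
    rw [Ideal.mem_comap, Ideal.mem_bot, Ideal.Quotient.algebraMap_eq, Ideal.Quotient.eq_zero_iff_mem]
    exact hI ha
  obtain ⟨f⟩ := hP.exists_algHom henselianRing_bot hbot
    (isUnit_iff_ne_zero.mpr fun h => hg (Ideal.Quotient.eq_zero_iff_mem.mp h))
  intro htop
  have h1 := Ideal.mem_map_of_mem f.toRingHom (htop ▸ Submodule.mem_top (x := (1 : P)))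
  rw [map_map_algHom, Ideal.Quotient.algebraMap_eq, Ideal.map_quotient_self, Ideal.mem_bot] at h1
  exact one_ne_zero ((map_one f).symm.trans h1)

/-- Ideal membership is local for a covering family of basic opens. -/
theorem mem_of_forall {ι : Type v} (hI : I ≤ Ideal.jacobson ⊥) (gs : ι → H)
    (hcov : I ⊔ Ideal.span (Set.range gs) = ⊤) (Ps : ι → Type u) [∀ i, CommRing (Ps i)]
    [∀ i, Algebra H (Ps i)] (hP : ∀ i, IsAway I (gs i) (Ps i)) (J : Ideal H) (x : H)
    (h : ∀ i, algebraMap H (Ps i) x ∈ J.map (algebraMap H (Ps i))) : x ∈ J := by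
  suffices J.colon {x} = ⊤ by
    have h1 : (1 : H) ∈ J.colon {x} := this ▸ Submodule.mem_top
    rw [Submodule.mem_colon_singleton, one_smul] at h1
    exact h1
  by_contra hne
  obtain ⟨m, hm, hle⟩ := Ideal.exists_le_maximal _ hne
  have hIm : I ≤ m := hI.trans (sInf_le ⟨bot_le, hm⟩)
  obtain ⟨i, hi⟩ : ∃ i, gs i ∉ m := by
    by_contra! hall
    exact hm.ne_top (top_le_iff.mp (hcov ▸ sup_le hIm (Ideal.span_le.mpr
      (by rintro _ ⟨i, rfl⟩; exact hall i))))
  have := (hP i).flat
  have h1 := mem_colon_map J x (1 : Ps i) (by rw [mul_one]; exact h i)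
  exact (hP i).map_ne_top m hIm hi ((Ideal.eq_top_iff_one _).mpr (Ideal.map_mono hle h1))

theorem eq_of_forall {ι : Type v} (hI : I ≤ Ideal.jacobson ⊥) (gs : ι → H)
    (hcov : I ⊔ Ideal.span (Set.range gs) = ⊤) (Ps : ι → Type u) [∀ i, CommRing (Ps i)]
    [∀ i, Algebra H (Ps i)] (hP : ∀ i, IsAway I (gs i) (Ps i)) (x y : H)
    (h : ∀ i, algebraMap H (Ps i) x = algebraMap H (Ps i) y) : x = y := by
  rw [← sub_eq_zero, ← Submodule.mem_bot (R := H)]
  exact mem_of_forall hI gs hcov Ps hP ⊥ (x - y) fun i => by simp [h i]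

theorem IsAway.quotient (hP : IsAway I g P) (J : Ideal H) :
    IsAway (I.map (Ideal.Quotient.mk J)) (Ideal.Quotient.mk J g) (P ⧸ J.map (algebraMap H P)) := by
  let JP := J.map (algebraMap H P)
  have hcomp : (algebraMap (H ⧸ J) (P ⧸ JP)).comp (Ideal.Quotient.mk J) =
      (Ideal.Quotient.mk JP).comp (algebraMap H P) := rfl
  refine ⟨(hP.1.map (Ideal.Quotient.mk JP)), ?_, fun C _ JC f hC hf hu => ?_⟩
  · rw [Ideal.map_map, hcomp, ← Ideal.map_map]
    exact henselianRing_of_isIntegral (A := P) hP.2.1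
  rw [Ideal.map_map] at hf
  obtain ⟨h, hh, huniq⟩ := hP.2.2 C JC (f.comp (Ideal.Quotient.mk J)) hC hf hu
  have hk : ∀ z ∈ JP, h z = 0 := fun z hz =>
    (Ideal.map_le_iff_le_comap.mpr fun a ha => by
      rw [Ideal.mem_comap, RingHom.mem_ker, show h (algebraMap H P a) = f (Ideal.Quotient.mk J a) from
        congr($hh a), Ideal.Quotient.eq_zero_iff_mem.mpr ha, map_zero] : JP ≤ RingHom.ker h) hz
  refine ⟨Ideal.Quotient.lift JP h hk, Ideal.Quotient.ringHom_ext ?_, fun h' hh' => ?_⟩
  · exact hh
  · refine Ideal.Quotient.ringHom_ext ?_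
    rw [Ideal.Quotient.lift_comp_mk]
    refine huniq _ ?_
    show (h'.comp (Ideal.Quotient.mk JP)).comp (algebraMap H P) = f.comp (Ideal.Quotient.mk J)
    rw [← hh', RingHom.comp_assoc, RingHom.comp_assoc, hcomp]

/-- The henselization of `A_g` is the henselization of `H_g` for the henselization `H` of `A`. -/
theorem isAway_of_henselization {A : Type u} [CommRing A] {I₀ : Ideal A} [Algebra A H]
    (hH : Hens2.IsPairHenselization A I₀ H) {g₀ : A} {Q : Type u} [CommRing Q] [Algebra A Q]
    (hQ : IsAway I₀ g₀ Q) [Algebra H Q] [IsScalarTower A H Q] :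
    IsAway (I₀.map (algebraMap A H)) (algebraMap A H g₀) Q := by
  refine ⟨?_, ?_, fun C _ JC f hC hf hu => ?_⟩
  · rw [← IsScalarTower.algebraMap_apply]; exact hQ.1
  · rw [map_map_of_tower]; exact hQ.2.1
  rw [Ideal.map_map] at hf
  obtain ⟨h, hh, huniq⟩ := hQ.2.2 C JC (f.comp (algebraMap A H)) hC hf hu
  refine ⟨h, (hH.2 C JC (f.comp (algebraMap A H)) hC hf).unique ?_ rfl, fun h' hh' => huniq h' ?_⟩
  · rw [RingHom.comp_assoc, ← IsScalarTower.algebraMap_eq]; exact hh
  · show h'.comp (algebraMap A Q) = _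
    rw [IsScalarTower.algebraMap_eq A H Q, ← RingHom.comp_assoc, hh']

end Groth.Agent.HensGlue6
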