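import Groth.Agent.Lib.HensGlue6.Glue
import Groth.Agent.S17613
import Groth.Agent.S9330
import Mathlib

/-! # Henselian finite presentation is local for coverings by basic opens -/

set_option autoImplicit false
universe u v

namespace Groth.Agent.HensGlue6

open Groth.Agent.Hens Groth.Agent.HfpH6

theorem henselianRing_directLimit {A : Type u} [CommRing A] (I : Ideal A) {κ : Type u} [Preorder κ]
    [IsDirectedOrder κ] [Nonempty κ] (P : κ → Type u) [∀ b, CommRing (P b)] [∀ b, Algebra A (P b)]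
    (hP : ∀ b, HenselianRing (P b) (I.map (algebraMap A (P b))))
    (tr : ∀ b c : κ, b ≤ c → (P b →+* P c)) [DirectedSystem P (fun b c h => tr b c h)]
    (htr : ∀ b c (h : b ≤ c), (tr b c h).comp (algebraMap A (P b)) = algebraMap A (P c))
    (φ : A →+* DirectLimit P tr) (hφ : ∀ b a, φ a = DirectLimit.Ring.of P tr b (algebraMap A (P b) a)) :
    HenselianRing (DirectLimit P tr) (I.map φ) := by
  let J : ∀ b, Ideal (P b) := fun b => I.map (algebraMap A (P b))
  have hJmono : ∀ (b c : κ) (h : b ≤ c), (J b).map (tr b c h) ≤ J c := fun b c h => by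
    rw [Ideal.map_map, htr]
  let _ : Algebra (DirectLimit P tr) (DirectLimit P tr) := Algebra.id _
  have hself : ∀ b, Hens2.IsPairHenselization (P b) (J b) (P b) := fun b => by
    refine ⟨by rw [Algebra.algebraMap_self, Ideal.map_id]; exact hP b,
      fun C _ JC f _ _ => ⟨f, RingHom.comp_id f, fun h hh => ?_⟩⟩
    rw [← hh, Algebra.algebraMap_self, RingHom.comp_id]
  have hL := (S9330.result P tr J hJmono P hself tr (fun b c h => by
    rw [Algebra.algebraMap_self, Algebra.algebraMap_self]; rfl) (fun t x => rfl)).1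
  rw [Algebra.algebraMap_self, Ideal.map_id] at hL
  have h0 : ∀ b, (DirectLimit.Ring.of P tr b).comp (algebraMap A (P b)) = φ := fun b =>
    RingHom.ext fun a => (hφ b a).symm
  rwa [show (⨆ b, (J b).map (DirectLimit.Ring.of P tr b)) = I.map φ from by
    simp only [J, Ideal.map_map, h0]; exact iSup_const] at hL

section System

variable {A : Type u} [CommRing A] (I : Ideal A) {κ : Type u} [Preorder κ]
  (Ra : κ → Type u) [∀ a, CommRing (Ra a)] [∀ a, Algebra A (Ra a)]
  (t : ∀ a b : κ, a ≤ b → (Ra a →+* Ra b))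

/-- Henselizations along the basic open of `G` of the members of a directed system above `a₁`. -/
structure AwaySys (a₁ : κ) (G : Ra a₁) : Type (u + 1) where
  P : {b : κ // a₁ ≤ b} → Type u
  comm : ∀ b, CommRing (P b)
  alg : ∀ b, Algebra (Ra b.1) (P b)
  isAway : ∀ b, IsAway (I.map (algebraMap A (Ra b.1))) (t a₁ b.1 b.2 G) (P b)
  tr : ∀ b c : {b : κ // a₁ ≤ b}, b ≤ c → (P b →+* P c)
  htr : ∀ b c (h : b ≤ c),
    (tr b c h).comp (algebraMap (Ra b.1) (P b)) = (algebraMap (Ra c.1) (P c)).comp (t b.1 c.1 h)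
  sys : DirectedSystem P (fun b c h => tr b c h)

attribute [instance] AwaySys.comm AwaySys.alg AwaySys.sys

variable {I Ra t} {a₁ : κ} {G : Ra a₁} (S : AwaySys I Ra t a₁ G)

noncomputable instance (b : {b : κ // a₁ ≤ b}) : Algebra A (S.P b) :=
  ((algebraMap (Ra b.1) (S.P b)).comp (algebraMap A (Ra b.1))).toAlgebra

instance (b : {b : κ // a₁ ≤ b}) : IsScalarTower A (Ra b.1) (S.P b) := IsScalarTower.of_algebraMap_eq' rfl

instance (b : {b : κ // a₁ ≤ b}) : HenselianRing (S.P b) (I.map (algebraMap A (S.P b))) := by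
  rw [← map_map_of_tower (R := Ra b.1)]
  exact (S.isAway b).2.1

theorem AwaySys.isUnit (b : {b : κ // a₁ ≤ b}) :
    IsUnit (algebraMap (Ra b.1) (S.P b) (t a₁ b.1 b.2 G)) :=
  (S.isAway b).1

theorem AwaySys.exists_hom (b : {b : κ // a₁ ≤ b}) {C : Type u} [CommRing C] [Algebra A C]
    (hC : HenselianRing C (I.map (algebraMap A C))) (f : Ra b.1 →ₐ[A] C)
    (hu : IsUnit (f (t a₁ b.1 b.2 G))) :
    ∃ h : S.P b →ₐ[A] C, ∀ x, h (algebraMap (Ra b.1) (S.P b) x) = f x := by
  obtain ⟨h, hh, -⟩ := (S.isAway b).2.2 C _ f.toRingHom hC (map_map_algHom I f).le hu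
  exact ⟨{ h with commutes' := fun a => (congr($hh (algebraMap A (Ra b.1) a))).trans (f.commutes a) },
    fun x => congr($hh x)⟩

theorem AwaySys.hom_ext {b : {b : κ // a₁ ≤ b}} {C : Type u} [CommRing C] [Algebra A C]
    (hC : HenselianRing C (I.map (algebraMap A C))) {h h' : S.P b →ₐ[A] C}
    (he : ∀ x, h (algebraMap (Ra b.1) (S.P b) x) = h' (algebraMap (Ra b.1) (S.P b) x)) : h = h' := by
  have h1 := ((S.isAway b).2.2 C _ (h.comp (IsScalarTower.toAlgHom A (Ra b.1) (S.P b))).toRingHom hC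
    (map_map_algHom I (h.comp (IsScalarTower.toAlgHom A (Ra b.1) (S.P b)))).le ((S.isUnit b).map h)).unique
    (y₁ := h.toRingHom) (y₂ := h'.toRingHom) rfl (RingHom.ext fun x => (he x).symm)
  exact AlgHom.ext fun x => congr($h1 x)

theorem exists_awaySys [DirectedSystem Ra (fun a b h => t a b h)]
    (ht : ∀ (a b : κ) (h : a ≤ b), (t a b h).comp (algebraMap A (Ra a)) = algebraMap A (Ra b))
    (a₁ : κ) (G : Ra a₁) : Nonempty (AwaySys I Ra t a₁ G) := by
  choose P iP aP hP using fun b : {b : κ // a₁ ≤ b} =>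
    exists_isAway (I.map (algebraMap A (Ra b.1))) (t a₁ b.1 b.2 G)
  have hI : ∀ b c (h : b ≤ c), (I.map (algebraMap A (Ra b.1))).map
      ((algebraMap (Ra c.1) (P c)).comp (t b.1 c.1 h)) ≤
        (I.map (algebraMap A (Ra c.1))).map (algebraMap (Ra c.1) (P c)) := fun b c h => by
    rw [Ideal.map_map, RingHom.comp_assoc, ht, ← Ideal.map_map]
  have hu : ∀ b c (h : b ≤ c), IsUnit (((algebraMap (Ra c.1) (P c)).comp (t b.1 c.1 h)) (t a₁ b.1 b.2 G)) :=
    fun b c h => by
      rw [RingHom.comp_apply, DirectedSystem.map_map (f := fun i j h => t i j h)]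
      exact (hP c).1
  choose tr htr hu' using fun b c (h : b ≤ c) => (hP b).2.2 (P c)
    ((I.map (algebraMap A (Ra c.1))).map (algebraMap (Ra c.1) (P c)))
    ((algebraMap (Ra c.1) (P c)).comp (t b.1 c.1 h)) (hP c).2.1 (hI b c h) (hu b c h)
  refine ⟨⟨P, iP, aP, hP, tr, htr, ⟨fun b y => ?_, fun {d c b} h h' y => ?_⟩⟩⟩
  · refine congr($((hu' b b le_rfl (RingHom.id _) ?_).symm) y)
    exact RingHom.ext fun x => congrArg (algebraMap (Ra b.1) (P b))
      (DirectedSystem.map_self (f := fun i j h => t i j h) x).symm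
  · refine congr($(hu' b d (h.trans h') ((tr c d h').comp (tr b c h)) ?_) y)
    show ((tr c d h').comp (tr b c h)).comp _ = _
    rw [RingHom.comp_assoc, htr, ← RingHom.comp_assoc, htr, RingHom.comp_assoc]
    exact congrArg _ (RingHom.ext fun x => DirectedSystem.map_map (f := fun i j h => t i j h) _ _ x)

variable [IsDirectedOrder κ]

instance (a₁ : κ) : IsDirectedOrder {b : κ // a₁ ≤ b} := ⟨fun b c => by
  obtain ⟨d, hb, hc⟩ := exists_ge_ge b.1 c.1
  exact ⟨⟨d, b.2.trans hb⟩, hb, hc⟩⟩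

instance (a₁ : κ) : Nonempty {b : κ // a₁ ≤ b} := ⟨⟨a₁, le_rfl⟩⟩

/-- The colimit of the system. -/
abbrev AwaySys.L : Type u := DirectLimit S.P S.tr

noncomputable def AwaySys.of (b : {b : κ // a₁ ≤ b}) : S.P b →+* S.L := DirectLimit.Ring.of S.P S.tr b

theorem AwaySys.of_tr {b c : {b : κ // a₁ ≤ b}} (h : b ≤ c) (y : S.P b) : S.of c (S.tr b c h y) = S.of b y :=
  DirectLimit.Ring.of_f h y

theorem AwaySys.exists_eq_zero {b : {b : κ // a₁ ≤ b}} {y : S.P b} (h : S.of b y = 0) :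
    ∃ c, ∃ h : b ≤ c, S.tr b c h y = 0 := by
  rw [← map_zero (S.of b)] at h
  obtain ⟨c, h1, h2, he⟩ := Quotient.exact h
  exact ⟨c, h1, he.trans (map_zero _)⟩

noncomputable instance : Algebra A S.L :=
  ((S.of ⟨a₁, le_rfl⟩).comp (algebraMap A (S.P ⟨a₁, le_rfl⟩))).toAlgebra

theorem AwaySys.tr_algebraMap
    (ht : ∀ (a b : κ) (h : a ≤ b), (t a b h).comp (algebraMap A (Ra a)) = algebraMap A (Ra b))
    {b c : {b : κ // a₁ ≤ b}} (h : b ≤ c) :
    (S.tr b c h).comp (algebraMap A (S.P b)) = algebraMap A (S.P c) := by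
  show (S.tr b c h).comp ((algebraMap (Ra b.1) (S.P b)).comp (algebraMap A (Ra b.1))) = _
  rw [← RingHom.comp_assoc, S.htr, RingHom.comp_assoc, ht]
  rfl

theorem AwaySys.algebraMap_L
    (ht : ∀ (a b : κ) (h : a ≤ b), (t a b h).comp (algebraMap A (Ra a)) = algebraMap A (Ra b))
    (b : {b : κ // a₁ ≤ b}) (x : A) : algebraMap A S.L x = S.of b (algebraMap A (S.P b) x) := by
  show S.of ⟨a₁, le_rfl⟩ _ = _
  rw [← S.tr_algebraMap ht (show (⟨a₁, le_rfl⟩ : {b : κ // a₁ ≤ b}) ≤ b from b.2), RingHom.comp_apply,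
    S.of_tr]

theorem AwaySys.henselianRing_L
    (ht : ∀ (a b : κ) (h : a ≤ b), (t a b h).comp (algebraMap A (Ra a)) = algebraMap A (Ra b)) :
    HenselianRing S.L (I.map (algebraMap A S.L)) :=
  henselianRing_directLimit I S.P (fun _ => inferInstance) S.tr (fun _ _ h => S.tr_algebraMap ht h) _
    fun b x => S.algebraMap_L ht b x

theorem AwaySys.exists_toL [Nonempty κ] [DirectedSystem Ra (fun a b h => t a b h)]
    (ht : ∀ (a b : κ) (h : a ≤ b), (t a b h).comp (algebraMap A (Ra a)) = algebraMap A (Ra b))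
    [Algebra A (DirectLimit Ra t)] (halg : ∀ (a : κ) (x : A), algebraMap A (DirectLimit Ra t) x =
      DirectLimit.Ring.of Ra t a (algebraMap A (Ra a) x)) :
    ∃ j : DirectLimit Ra t →ₐ[A] S.L, ∀ (b : {b : κ // a₁ ≤ b}) (x : Ra b.1),
      j (DirectLimit.Ring.of Ra t b.1 x) = S.of b (algebraMap (Ra b.1) (S.P b) x) := by
  choose up hup hup' using fun a : κ => exists_ge_ge a a₁
  let g : ∀ a, Ra a →+* S.L := fun a =>
    (S.of ⟨up a, hup' a⟩).comp ((@algebraMap (Ra (up a)) (S.P ⟨up a, hup' a⟩) _ _ (S.alg ⟨up a, hup' a⟩)).comp (t a (up a) (hup a)))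
  have hg : ∀ (a : κ) (b : {b : κ // a₁ ≤ b}) (h : a ≤ b.1) (x : Ra a),
      g a x = S.of b (algebraMap (Ra b.1) (S.P b) (t a b.1 h x)) := by
    intro a b h x
    obtain ⟨c, h1, h2⟩ := exists_ge_ge (⟨up a, hup' a⟩ : {b : κ // a₁ ≤ b}) b
    dsimp only [g, RingHom.comp_apply]
    rw [← S.of_tr h1, ← S.of_tr h2]
    refine congrArg (S.of c) ((congr($(S.htr _ _ h1) _)).trans (Eq.trans ?_ (congr($(S.htr _ _ h2) _)).symm))
    show algebraMap _ _ (t _ _ _ _) = algebraMap _ _ (t _ _ _ _)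
    rw [DirectedSystem.map_map (f := fun i j h => t i j h), DirectedSystem.map_map (f := fun i j h => t i j h)]
  let j₀ : DirectLimit Ra t →+* S.L := DirectLimit.Ring.lift Ra t S.L g fun a b h x => by
    rw [hg b ⟨up b, hup' b⟩ (hup b), hg a ⟨up b, hup' b⟩ (h.trans (hup b)),
      DirectedSystem.map_map (f := fun i j h => t i j h)]
  refine ⟨{ j₀ with commutes' := fun x => ?_ }, fun b x => ?_⟩
  · show j₀ (algebraMap A (DirectLimit Ra t) x) = _
    rw [halg a₁ x]
    show g a₁ _ = _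
    rw [hg a₁ ⟨a₁, le_rfl⟩ le_rfl, DirectedSystem.map_self (f := fun i j h => t i j h)]
    rfl
  · show g b.1 x = _
    rw [hg b.1 b le_rfl, DirectedSystem.map_self (f := fun i j h => t i j h)]

/-- Comparison maps for systems along smaller basic opens. -/
theorem AwaySys.exists_map
    (ht : ∀ (a b : κ) (h : a ≤ b), (t a b h).comp (algebraMap A (Ra a)) = algebraMap A (Ra b))
    {G' : Ra a₁} (S' : AwaySys I Ra t a₁ G') (hdvd : G ∣ G') :
    ∃ (m : ∀ b, S.P b →ₐ[A] S'.P b) (mL : S.L →ₐ[A] S'.L),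
      (∀ b (x : Ra b.1), m b (algebraMap (Ra b.1) (S.P b) x) = algebraMap (Ra b.1) (S'.P b) x) ∧
      (∀ b c (h : b ≤ c) y, S'.tr b c h (m b y) = m c (S.tr b c h y)) ∧
      ∀ b y, mL (S.of b y) = S'.of b (m b y) := by
  have hu : ∀ b : {b : κ // a₁ ≤ b}, IsUnit (algebraMap (Ra b.1) (S'.P b) (t a₁ b.1 b.2 G)) := fun b =>
    isUnit_of_dvd_unit (map_dvd _ (map_dvd _ hdvd)) (S'.isUnit b)
  choose m hm using fun b => S.exists_hom b (C := S'.P b) inferInstance
    (IsScalarTower.toAlgHom A (Ra b.1) (S'.P b)) (hu b)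
  have hnat : ∀ b c (h : b ≤ c) y, S'.tr b c h (m b y) = m c (S.tr b c h y) := by
    intro b c h y
    let T : S.P b →ₐ[A] S.P c := { S.tr b c h with commutes' := fun x => congr($(S.tr_algebraMap ht h) x) }
    let T' : S'.P b →ₐ[A] S'.P c := { S'.tr b c h with commutes' := fun x => congr($(S'.tr_algebraMap ht h) x) }
    refine congr($(S.hom_ext (C := S'.P c) inferInstance (h := T'.comp (m b)) (h' := (m c).comp T) fun x => ?_) y)
    show S'.tr b c h (m b _) = m c (S.tr b c h _)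
    rw [hm b x, show S.tr b c h (algebraMap (Ra b.1) (S.P b) x) = _ from congr($(S.htr b c h) x)]
    exact (congr($(S'.htr b c h) x)).trans (hm c _).symm
  let mL₀ : S.L →+* S'.L := DirectLimit.Ring.lift S.P S.tr S'.L (fun b => (S'.of b).comp (m b).toRingHom)
    fun b c h y => (congrArg (S'.of c) (hnat b c h y).symm).trans (S'.of_tr h _)
  refine ⟨m, { mL₀ with commutes' := fun x => ?_ }, fun b x => hm b x, hnat, fun b y => rfl⟩
  show mL₀ (S.of ⟨a₁, le_rfl⟩ _) = S'.of ⟨a₁, le_rfl⟩ _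
  exact congrArg (S'.of _) ((m _).commutes x)

end System

theorem exists_ge_finite {κ : Type*} [Preorder κ] [IsDirectedOrder κ] [Nonempty κ] {ι : Type*} [Finite ι]
    (f : ι → κ) : ∃ a, ∀ i, f i ≤ a := by
  classical
  cases nonempty_fintype ι
  obtain ⟨a, ha⟩ := Finset.exists_le (Finset.univ.image f)
  exact ⟨a, fun i => ha _ (Finset.mem_image_of_mem _ (Finset.mem_univ i))⟩

section Cover

variable {A : Type u} [CommRing A] {I : Ideal A} {B : Type u} [CommRing B] [Algebra A B]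
  {ι : Type v} [Finite ι] (f : ι → B)
  (H : ι → Type u) [∀ i, CommRing (H i)] [∀ i, Algebra B (H i)] [∀ i, Algebra A (H i)]
  [∀ i, IsScalarTower A B (H i)]
  (R : ι → Type u) [∀ i, CommRing (R i)] [∀ i, Algebra A (R i)]
  [∀ i, Algebra.FinitePresentation A (R i)] [∀ i, Algebra (R i) (H i)]
  [∀ i, IsScalarTower A (R i) (H i)]

/-- A map to a directed colimit of henselian pairs factors through a stage, if it does so locally. -/
theorem exists_factor_of_cover [HenselianRing A I]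
    (hH : ∀ i, IsAway (I.map (algebraMap A B)) (f i) (H i))
    (hR : ∀ i, Hens2.IsPairHenselization (R i) (I.map (algebraMap A (R i))) (H i))
    {κ : Type u} [Preorder κ] [IsDirectedOrder κ] [Nonempty κ]
    (Ra : κ → Type u) [∀ a, CommRing (Ra a)] [∀ a, Algebra A (Ra a)]
    [∀ a, HenselianRing (Ra a) (I.map (algebraMap A (Ra a)))]
    (t : ∀ a b : κ, a ≤ b → (Ra a →+* Ra b)) [DirectedSystem Ra (fun a b h => t a b h)]
    (ht : ∀ (a b : κ) (h : a ≤ b), (t a b h).comp (algebraMap A (Ra a)) = algebraMap A (Ra b))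
    [Algebra A (DirectLimit Ra t)]
    (halg : ∀ (a : κ) (x : A), algebraMap A (DirectLimit Ra t) x =
      DirectLimit.Ring.of Ra t a (algebraMap A (Ra a) x))
    (hf : Ideal.span (Set.range f) = ⊤) (χ : B →ₐ[A] DirectLimit Ra t) :
    ∃ (a : κ) (φ : B →ₐ[A] Ra a), ∀ x : B, DirectLimit.Ring.of Ra t a (φ x) = χ x := by
  classical
  cases nonempty_fintype ι
  obtain ⟨w, hw⟩ : ∃ w : ι → B, ∑ i, w i * f i = 1 := by
    have h1 : (1 : B) ∈ Ideal.span (Set.range f) := hf ▸ Submodule.mem_top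
    exact Ideal.mem_span_range_iff_exists_fun.mp h1
  obtain ⟨a₀, hY₀⟩ := exists_of_finset' Ra t (Finset.univ : Finset (ι ⊕ ι)) (Sum.elim (fun i => χ (w i)) fun i => χ (f i))
  choose Y hY using fun o => hY₀ o (Finset.mem_univ o)
  obtain ⟨a₁, h01, h1⟩ := exists_map_eq Ra t (∑ i, Y (Sum.inl i) * Y (Sum.inr i)) (1 : Ra a₀) (by
    simp only [map_sum, map_mul, map_one, hY, Sum.elim_inl, Sum.elim_inr]
    simp only [← map_mul, ← map_sum, hw, map_one])
  let F : ι → Ra a₁ := fun i => t a₀ a₁ h01 (Y (Sum.inr i))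
  let W : ι → Ra a₁ := fun i => t a₀ a₁ h01 (Y (Sum.inl i))
  have hWF : ∑ i, W i * F i = 1 := by
    simp only [W, F, ← map_mul, ← map_sum]; rw [h1, map_one]
  have hF : ∀ i, DirectLimit.Ring.of Ra t a₁ (F i) = χ (f i) := fun i =>
    (DirectLimit.Ring.of_f h01 _).trans (hY _)
  have S : ∀ i, AwaySys I Ra t a₁ (F i) := fun i => (exists_awaySys ht a₁ (F i)).some
  have T : ∀ i j, AwaySys I Ra t a₁ (F i * F j) := fun i j => (exists_awaySys ht a₁ (F i * F j)).some
  choose jS hjS using fun i => (S i).exists_toL ht halg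
  choose jT hjT using fun i j => (T i j).exists_toL ht halg
  choose mσ mσL hmσ hmσn hmσL using fun i j => (S i).exists_map ht (T i j) (dvd_mul_right _ _)
  choose mτ mτL hmτ hmτn hmτL using fun i j => (S j).exists_map ht (T i j) (dvd_mul_left (F j) (F i))
  have hI : ∀ {C : Type u} [CommRing C] [Algebra A C] (g : B →ₐ[A] C),
      (I.map (algebraMap A B)).map g.toRingHom ≤ I.map (algebraMap A C) :=
    fun g => (map_map_algHom I g).le
  have hχ : ∀ i, ∃ h : H i →ₐ[A] (S i).L, ∀ x, h (algebraMap B (H i) x) = jS i (χ x) := fun i => by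
    obtain ⟨h, hh, -⟩ := (hH i).2.2 (S i).L _ ((jS i).comp χ).toRingHom ((S i).henselianRing_L ht)
      (hI ((jS i).comp χ)) (by
        show IsUnit (jS i (χ (f i)))
        rw [← hF, hjS i ⟨a₁, le_rfl⟩]
        refine IsUnit.map _ ?_
        have := (S i).isUnit ⟨a₁, le_rfl⟩
        rwa [DirectedSystem.map_self (f := fun i j h => t i j h)] at this)
    exact ⟨{ h with
      commutes' := fun x => by
          show h (algebraMap A (H i) x) = _
          rw [IsScalarTower.algebraMap_apply A B (H i)]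
          exact (congr($hh _)).trans (((jS i).comp χ).commutes x) }, fun x => congr($hh x)⟩
  choose χi hχi using hχ
  choose b₀ φ₀ hφ₀ using fun i => (S17613.result A I (R i) (H i) (hR i) (S i).P (S i).tr
    (fun _ _ h => (S i).tr_algebraMap ht h) (fun b x => (S i).algebraMap_L ht b x)).1 (χi i)
  obtain ⟨b₁, hb₁⟩ := exists_ge_finite b₀
  let φ₁ : ∀ i, H i →ₐ[A] (S i).P b₁ := fun i =>
    { ((S i).tr (b₀ i) b₁ (hb₁ i)).comp (φ₀ i).toRingHom with
      commutes' := fun x => by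
        show (S i).tr _ _ _ (φ₀ i (algebraMap A (H i) x)) = _
        rw [(φ₀ i).commutes]; exact congr($((S i).tr_algebraMap ht (hb₁ i)) x) }
  have hφ₁ : ∀ i y, (S i).of b₁ (φ₁ i y) = χi i y := fun i y => ((S i).of_tr _ _).trans (hφ₀ i y)
  have hd : ∀ i k, (S i).of b₁ (φ₁ i (algebraMap B (H i) (f k)) -
      algebraMap (Ra b₁.1) ((S i).P b₁) (t a₁ b₁.1 b₁.2 (F k))) = 0 := fun i k => by
    rw [map_sub, hφ₁, hχi, ← hjS i b₁, DirectLimit.Ring.of_f, hF, sub_self]
  choose c₁ hc₁ hz₁ using fun i k => (S i).exists_eq_zero (hd i k)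
  obtain ⟨b₂, hb₂⟩ := exists_ge_finite (fun o : Option (ι × ι) => o.elim b₁ fun p => c₁ p.1 p.2)
  have h12 : b₁ ≤ b₂ := hb₂ none
  let φ₂ : ∀ i, H i →ₐ[A] (S i).P b₂ := fun i =>
    { ((S i).tr b₁ b₂ h12).comp (φ₁ i).toRingHom with
      commutes' := fun x => by
        show (S i).tr _ _ _ (φ₁ i (algebraMap A (H i) x)) = _
        rw [(φ₁ i).commutes]; exact congr($((S i).tr_algebraMap ht h12) x) }
  have hφ₂ : ∀ i y, (S i).of b₂ (φ₂ i y) = χi i y := fun i y => ((S i).of_tr _ _).trans (hφ₁ i y)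
  have hφ₂f : ∀ i k, φ₂ i (algebraMap B (H i) (f k)) =
      algebraMap (Ra b₂.1) ((S i).P b₂) (t a₁ b₂.1 b₂.2 (F k)) := fun i k => by
    rw [← DirectedSystem.map_map (f := fun i j h => t i j h) b₁.2 (show b₁.1 ≤ b₂.1 from h12) (F k)]
    rw [show algebraMap (Ra b₂.1) ((S i).P b₂) (t b₁.1 b₂.1 h12 (t a₁ b₁.1 b₁.2 (F k))) = _ from
      (congr($((S i).htr b₁ b₂ h12) _)).symm]
    rw [← sub_eq_zero]
    show (S i).tr b₁ b₂ h12 (φ₁ i _) - (S i).tr b₁ b₂ h12 _ = 0
    have hb2' : c₁ i k ≤ b₂ := hb₂ (some (i, k))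
    rw [← map_sub, ← DirectedSystem.map_map (f := fun x y h => (S i).tr x y h) (hc₁ i k) hb2', hz₁,
      map_zero]
  let β : ∀ i, B →ₐ[A] (S i).P b₂ := fun i => (φ₂ i).comp (IsScalarTower.toAlgHom A B (H i))
  have hv : ∀ i j, ∃ v : H j →ₐ[A] (T i j).P b₂, ∀ x, v (algebraMap B (H j) x) = mσ i j b₂ (β i x) := by
    intro i j
    obtain ⟨h, hh, -⟩ := (hH j).2.2 ((T i j).P b₂) _ ((mσ i j b₂).comp (β i)).toRingHom inferInstance
      (hI _) (by
        show IsUnit (mσ i j b₂ (φ₂ i (algebraMap B (H i) (f j))))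
        rw [hφ₂f, hmσ]
        exact isUnit_of_dvd_unit (map_dvd _ (map_dvd _ (dvd_mul_left (F j) (F i)))) ((T i j).isUnit b₂))
    exact ⟨{ h with
      commutes' := fun x => by
          show h (algebraMap A (H j) x) = _
          rw [IsScalarTower.algebraMap_apply A B (H j)]
          exact (congr($hh _)).trans (((mσ i j b₂).comp (β i)).commutes x) }, fun x => congr($hh x)⟩
  choose v hv using hv
  have hTu : ∀ i j (y : H j), (T i j).of b₂ (v i j y) = (T i j).of b₂ (mτ i j b₂ (φ₂ j y)) := by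
    intro i j y
    let o : (T i j).P b₂ →ₐ[A] (T i j).L :=
      { (T i j).of b₂ with commutes' := fun x => ((T i j).algebraMap_L ht b₂ x).symm }
    have key : ∀ (k : ι) (m : (S k).L →ₐ[A] (T i j).L)
        (hm : ∀ (b : {b : κ // a₁ ≤ b}) (x : Ra b.1), m ((S k).of b (algebraMap (Ra b.1) ((S k).P b) x)) =
          (T i j).of b (algebraMap (Ra b.1) ((T i j).P b) x)) (x : B),
        m ((S k).of b₂ (β k x)) = jT i j (χ x) := by
      intro k m hm x
      rw [show (S k).of b₂ (β k x) = jS k (χ x) from (hφ₂ k _).trans (hχi k x)]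
      obtain ⟨a, z, hz⟩ := exists_eq_of Ra t (χ x)
      obtain ⟨c, hac, hc⟩ := exists_ge_ge a a₁
      rw [← hz, ← DirectLimit.Ring.of_f hac, hjS k ⟨c, hc⟩, hm, hjT i j ⟨c, hc⟩]
    have hJ : HenselianRing (T i j).L (I.map (algebraMap A (T i j).L)) := (T i j).henselianRing_L ht
    let g := (jT i j).comp χ
    obtain ⟨_, -, hu⟩ := (hH j).2.2 (T i j).L _ g.toRingHom hJ (hI g) (by
      show IsUnit (jT i j (χ (f j)))
      rw [← key j (mτL i j) (fun b x => by rw [hmτL, hmτ]) (f j), hmτL]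
      show IsUnit ((T i j).of b₂ (mτ i j b₂ (φ₂ j (algebraMap B (H j) (f j)))))
      exact (((hH j).1.map (φ₂ j)).map (mτ i j b₂)).map _)
    have e1 := hu (o.comp (v i j)).toRingHom (RingHom.ext fun x => by
      show (T i j).of b₂ (v i j (algebraMap B (H j) x)) = _
      rw [hv, ← hmσL]
      exact key i (mσL i j) (fun b x => by rw [hmσL, hmσ]) x)
    have e2 := hu (o.comp ((mτ i j b₂).comp (φ₂ j))).toRingHom (RingHom.ext fun x => by
      show (T i j).of b₂ (mτ i j b₂ (φ₂ j (algebraMap B (H j) x))) = _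
      rw [← hmτL]
      exact key j (mτL i j) (fun b x => by rw [hmτL, hmτ]) x)
    exact congr($(e1.trans e2.symm) y)
  choose c₂ hc₂ hz₂ using fun i j => (S17613.result A I (R j) (H j) (hR j) (T i j).P (T i j).tr
    (fun _ _ h => (T i j).tr_algebraMap ht h) (fun b x => (T i j).algebraMap_L ht b x)).2 b₂
    (v i j) ((mτ i j b₂).comp (φ₂ j)) (hTu i j)
  obtain ⟨b, hb⟩ := exists_ge_finite (fun o : Option (ι × ι) => o.elim b₂ fun p => c₂ p.1 p.2)
  have h2b : b₂ ≤ b := hb none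
  let s : ∀ i, B → (S i).P b := fun i x => (S i).tr b₂ b h2b (β i x)
  have hcompat : ∀ i j x, mσ i j b (s i x) = mτ i j b (s j x) := by
    intro i j x
    show mσ i j b ((S i).tr b₂ b h2b _) = mτ i j b ((S j).tr b₂ b h2b _)
    rw [← hmσn, ← hmτn, ← hv]
    rw [← DirectedSystem.map_map (f := fun x y h => (T i j).tr x y h) (hc₂ i j) (hb (some (i, j))),
      ← DirectedSystem.map_map (f := fun x y h => (T i j).tr x y h) (hc₂ i j) (hb (some (i, j)))
        (mτ i j b₂ (β j x))]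
    exact congrArg _ (hz₂ i j _)
  let g : ι → Ra b.1 := fun i => t a₁ b.1 b.2 (F i)
  have hcov : I.map (algebraMap A (Ra b.1)) ⊔ Ideal.span (Set.range g) = ⊤ := by
    refine eq_top_iff.mpr fun _ _ => Submodule.mem_sup_right ?_
    rw [show Ideal.span (Set.range g) = ⊤ from (Ideal.eq_top_iff_one _).mpr
      (Ideal.mem_span_range_iff_exists_fun.mpr ⟨fun i => t a₁ b.1 b.2 (W i), by
        simp only [g, ← map_mul, ← map_sum, hWF, map_one]⟩)]
    trivial
  have hself : Hens2.IsPairHenselization (Ra b.1) (I.map (algebraMap A (Ra b.1))) (Ra b.1) :=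
    ⟨by rw [Algebra.algebraMap_self, Ideal.map_id]; infer_instance,
      fun C _ JC k _ _ => ⟨k, RingHom.comp_id k, fun h hh => by
        rw [← hh, Algebra.algebraMap_self, RingHom.comp_id]⟩⟩
  have hTaway : ∀ i j, IsAway (I.map (algebraMap A (Ra b.1))) (g i * g j) ((T i j).P b) := fun i j => by
    show IsAway _ (t a₁ b.1 b.2 (F i) * t a₁ b.1 b.2 (F j)) _
    rw [← map_mul]; exact (T i j).isAway b
  obtain ⟨hinj, hgl⟩ := exists_glue g hcov hself (fun i => (S i).P b) (fun i => (S i).isAway b)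
    (fun i j => (T i j).P b) hTaway (fun i => Algebra.ofId (Ra b.1) ((S i).P b))
    (fun i j => { (mσ i j b).toRingHom with commutes' := fun x => hmσ i j b x })
    (fun i j => { (mτ i j b).toRingHom with commutes' := fun x => hmτ i j b x })
  choose φ hφ using fun x : B => hgl (fun i => s i x) fun i j => hcompat i j x
  replace hφ : ∀ x i, algebraMap (Ra b.1) ((S i).P b) (φ x) = s i x := hφ
  replace hinj : ∀ x y : Ra b.1, (∀ i, algebraMap (Ra b.1) ((S i).P b) x =
      algebraMap (Ra b.1) ((S i).P b) y) → x = y := hinj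
  let φ' : B →ₐ[A] Ra b.1 :=
    { toFun := φ
      map_one' := hinj _ _ fun i => by rw [hφ, map_one]; simp [s]
      map_mul' := fun x y => hinj _ _ fun i => by rw [hφ, map_mul, hφ, hφ]; simp [s]
      map_zero' := hinj _ _ fun i => by rw [hφ, map_zero]; simp [s]
      map_add' := fun x y => hinj _ _ fun i => by rw [hφ, map_add, hφ, hφ]; simp [s]
      commutes' := fun x => hinj _ _ fun i => by
        rw [hφ]
        show (S i).tr b₂ b h2b (β i (algebraMap A B x)) = _
        rw [(β i).commutes, ← IsScalarTower.algebraMap_apply]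
        exact congr($((S i).tr_algebraMap ht h2b) x) }
  refine ⟨b.1, φ', fun x => ?_⟩
  obtain ⟨a, z, hz⟩ := exists_eq_of Ra t (χ x)
  obtain ⟨c₀, hac, hbc⟩ := exists_ge_ge a b.1
  let c : {b : κ // a₁ ≤ b} := ⟨c₀, b.2.trans hbc⟩
  replace hac : a ≤ c.1 := hac
  replace hbc : b.1 ≤ c.1 := hbc
  have hd3 : ∀ i, (S i).of c (algebraMap (Ra c.1) ((S i).P c) (t b.1 c.1 hbc (φ x) - t a c.1 hac z)) = 0 := by
    intro i
    rw [← hjS i c, map_sub, map_sub, DirectLimit.Ring.of_f, DirectLimit.Ring.of_f, hz, hjS i b, hφ,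
      sub_eq_zero]
    exact ((S i).of_tr h2b _).trans ((hφ₂ i _).trans (hχi i x))
  choose c₃ hc₃ hz₃ using fun i => (S i).exists_eq_zero (hd3 i)
  obtain ⟨d, hd'⟩ := exists_ge_finite (fun o : Option ι => o.elim c c₃)
  have hcd : c ≤ d := hd' none
  have hzero : t c.1 d.1 hcd (t b.1 c.1 hbc (φ x) - t a c.1 hac z) = 0 := by
    refine eq_of_forall (H := Ra d.1) (I := I.map (algebraMap A (Ra d.1)))
      (inferInstance : HenselianRing (Ra d.1) (I.map (algebraMap A (Ra d.1)))).jac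
      (fun i => t a₁ d.1 d.2 (F i)) ?_ (fun i => (S i).P d) (fun i => (S i).isAway d) _ 0 fun i => ?_
    · refine eq_top_iff.mpr fun _ _ => Submodule.mem_sup_right ?_
      rw [show Ideal.span (Set.range fun i => t a₁ d.1 d.2 (F i)) = ⊤ from (Ideal.eq_top_iff_one _).mpr
        (Ideal.mem_span_range_iff_exists_fun.mpr ⟨fun i => t a₁ d.1 d.2 (W i), by
          simp only [← map_mul, ← map_sum, hWF, map_one]⟩)]
      trivial
    · rw [map_zero]
      refine (congr($((S i).htr c d hcd) _)).symm.trans ?_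
      show (S i).tr c d _ _ = 0
      have hd3' : c₃ i ≤ d := hd' (some i)
      rw [← DirectedSystem.map_map (f := fun x y h => (S i).tr x y h) (hc₃ i) hd3', hz₃, map_zero]
  rw [map_sub, sub_eq_zero] at hzero
  show DirectLimit.Ring.of Ra t b.1 (φ x) = χ x
  rw [← hz, ← DirectLimit.Ring.of_f hbc, ← DirectLimit.Ring.of_f (show c.1 ≤ d.1 from hcd), hzero, DirectLimit.Ring.of_f,
    DirectLimit.Ring.of_f]

/-- Henselian finite presentation is local for coverings by basic opens. -/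
theorem exists_fp_of_cover [HenselianRing A I] (hB : HenselianRing B (I.map (algebraMap A B)))
    (hH : ∀ i, IsAway (I.map (algebraMap A B)) (f i) (H i))
    (hR : ∀ i, Hens2.IsPairHenselization (R i) (I.map (algebraMap A (R i))) (H i))
    (hf : Ideal.span (Set.range f) = ⊤) :
    ∃ (T : Type u) (_ : CommRing T) (_ : Algebra A T) (_ : Algebra T B) (_ : IsScalarTower A T B),
      Algebra.FinitePresentation A T ∧ Hens2.IsPairHenselization T (I.map (algebraMap A T)) B :=
  exists_surjective_of_finite_limits (I := I) (B := B) hB fun _ _ _ _ Ra _ _ _ t _ ht _ halg χ =>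
    exists_factor_of_cover f H R hH hR Ra t ht halg hf χ

end Cover

end Groth.Agent.HensGlue6
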