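import Groth.Agent.Lib.HensGlue6.Away
import Groth.Agent.Lib.Hens.Fibre
import Groth.Agent.Lib.Hens.Reduced
import Groth.Agent.Lib.Hens.Finite
import Mathlib

/-! # Gluing in henselizations along basic opens: the case of a domain

For a henselian pair `(H, I)` with `H` a domain, a compatible family of elements of the
henselizations of the `H_{gᵢ}` comes from `H`. The proof compares all values in an algebraic
closure of the fraction field by means of the integral closure of `H` in it.
-/

set_option autoImplicit false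
universe u v

namespace Groth.Agent.HensGlue6

open Groth.Agent.Hens Groth.Agent.HfpH6 IsLocalRing Polynomial

theorem henselianLocalRing_of_isIntegrallyClosed (L Kb : Type u) [CommRing L] [IsLocalRing L]
    [Field Kb] [Algebra L Kb] [IsFractionRing L Kb] [IsAlgClosed Kb] [IsIntegrallyClosed L] :
    HenselianLocalRing L := by
  classical
  refine ⟨fun f hf a₀ h₁ _ => ?_⟩
  have hinj := IsFractionRing.injective L Kb
  have hr : ∀ r ∈ (f.map (algebraMap L Kb)).roots, ∃ r' : L, algebraMap L Kb r' = r := fun r hr => by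
    refine IsIntegrallyClosed.isIntegral_iff.mp ⟨f, hf, ?_⟩
    rw [eval₂_eq_eval_map]
    exact (mem_roots'.mp hr).2
  obtain ⟨s, hs⟩ : ∃ s : Multiset L, s.map (algebraMap L Kb) = (f.map (algebraMap L Kb)).roots := by
    generalize (f.map (algebraMap L Kb)).roots = R at hr
    induction R using Multiset.induction_on with
    | empty => exact ⟨0, rfl⟩
    | cons a R ih =>
      obtain ⟨t, ht⟩ := ih fun r hr' => hr r (Multiset.mem_cons_of_mem hr')
      obtain ⟨a', ha'⟩ := hr a (Multiset.mem_cons_self a R)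
      exact ⟨a' ::ₘ t, by rw [Multiset.map_cons, ha', ht]⟩
  have heq : f = (s.map fun r => X - C r).prod := by
    refine map_injective _ hinj ?_
    rw [(IsAlgClosed.splits (f.map (algebraMap L Kb))).eq_prod_roots_of_monic (hf.map _), ← hs,
      Polynomial.map_multiset_prod, Multiset.map_map, Multiset.map_map]
    exact congrArg Multiset.prod (Multiset.map_congr rfl fun r _ => by simp)
  have h₂ : (s.map fun r => a₀ - r).prod ∈ maximalIdeal L := by
    rw [heq, eval_multiset_prod, Multiset.map_map] at h₁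
    simpa [Function.comp_def] using h₁
  obtain ⟨_, hmem, hr'⟩ :=
    ((maximalIdeal.isMaximal L).isPrime.multiset_prod_mem_iff_exists_mem _).mp h₂
  obtain ⟨r, hrs, rfl⟩ := Multiset.mem_map.mp hmem
  refine ⟨r, ?_, by simpa using Ideal.neg_mem_iff _ |>.mpr hr'⟩
  rw [IsRoot, heq, eval_multiset_prod, Multiset.map_map]
  exact Multiset.prod_eq_zero (Multiset.mem_map.mpr ⟨r, hrs, by simp⟩)

theorem preconnectedSpace_quotient {R : Type u} [CommRing R] [IsDomain R] {J : Ideal R}
    (hR : HenselianRing R J) : PreconnectedSpace (PrimeSpectrum (R ⧸ J)) := by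
  rw [preconnectedSpace_iff_clopen]
  intro t ht
  obtain ⟨e, he, rfl⟩ := PrimeSpectrum.isClopen_iff.mp ht
  obtain ⟨b, rfl⟩ := Ideal.Quotient.mk_surjective e
  have hb : b * b - b ∈ J := by
    rw [← Ideal.Quotient.eq, map_mul]
    exact he
  obtain ⟨ε, hε, hεb⟩ := Hens.exists_idempotent_lift hR b
    (by rw [Algebra.algebraMap_self, Ideal.map_id]; exact hb)
  rw [Algebra.algebraMap_self, Ideal.map_id] at hεb
  rw [← Ideal.Quotient.eq] at hεb
  rcases IsIdempotentElem.iff_eq_zero_or_one.mp hε with rfl | rfl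
  · exact Or.inl (by rw [← hεb]; simp)
  · exact Or.inr (by rw [← hεb]; simp)

section Closure

variable (H : Type u) [CommRing H] [IsDomain H] (K Kb : Type u) [Field K] [Algebra H K]
  [IsFractionRing H K] [Field Kb] [Algebra K Kb] [Algebra H Kb] [IsScalarTower H K Kb]

/-- The integral closure of `H` in `Kb`. -/
abbrev D : Subalgebra H Kb := integralClosure H Kb

include K in
theorem isFractionRing_D [Algebra.IsAlgebraic K Kb] : IsFractionRing (D H Kb) Kb := by
  have : Algebra.IsAlgebraic H Kb := (IsFractionRing.comap_isAlgebraic_iff (K := K)).mpr inferInstance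
  exact integralClosure.isFractionRing_of_algebraic fun x hx => by
    rw [IsScalarTower.algebraMap_apply H K Kb, map_eq_zero] at hx
    exact IsFractionRing.to_map_eq_zero_iff.mp hx

include K in
theorem isIntegrallyClosed_D [Algebra.IsAlgebraic K Kb] : IsIntegrallyClosed (D H Kb) := by
  have := isFractionRing_D H K Kb
  refine (isIntegrallyClosed_iff Kb).mpr fun {x} hx => ⟨⟨x, isIntegral_trans x hx⟩, rfl⟩

variable {H Kb}

/-- The local ring of the integral closure at a prime, inside `Kb`. -/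
noncomputable abbrev Loc [IsFractionRing (D H Kb) Kb] (q : PrimeSpectrum (D H Kb)) : Subalgebra (D H Kb) Kb :=
  Localization.subalgebra.ofField Kb q.asIdeal.primeCompl q.asIdeal.primeCompl_le_nonZeroDivisors

variable [IsFractionRing (D H Kb) Kb]

theorem mem_loc {q : PrimeSpectrum (D H Kb)} {z : Kb} :
    z ∈ Loc q ↔ ∃ a s : D H Kb, s ∉ q.asIdeal ∧ z = (a : Kb) * (s : Kb)⁻¹ := by
  show (∃ (a s : D H Kb) (_ : s ∈ q.asIdeal.primeCompl), z = _) ↔ _
  simp only [exists_prop]
  rfl

theorem isLocalRing_loc (q : PrimeSpectrum (D H Kb)) : IsLocalRing (Loc q) :=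
  IsLocalization.AtPrime.isLocalRing (Loc q) q.asIdeal

include K in
theorem henselianLocalRing_loc [IsAlgClosure K Kb] (q : PrimeSpectrum (D H Kb)) :
    HenselianLocalRing (Loc q) := by
  have := IsAlgClosure.isAlgebraic (R := K) (K := Kb)
  have := IsAlgClosure.isAlgClosed K (K := Kb)
  have := isLocalRing_loc q
  have := isIntegrallyClosed_D H K Kb
  have : IsIntegrallyClosed (Loc q) :=
    isIntegrallyClosed_of_isLocalization _ q.asIdeal.primeCompl q.asIdeal.primeCompl_le_nonZeroDivisors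
  exact henselianLocalRing_of_isIntegrallyClosed (Loc q) Kb

theorem map_le_loc {I : Ideal H} {q : PrimeSpectrum (D H Kb)}
    (hq : I.map (algebraMap H (D H Kb)) ≤ q.asIdeal) :
    haveI := isLocalRing_loc q
    I.map (algebraMap H (Loc q)) ≤ maximalIdeal (Loc q) := by
  have := isLocalRing_loc q
  rw [IsScalarTower.algebraMap_eq H (D H Kb) (Loc q), ← Ideal.map_map,
    ← IsLocalization.AtPrime.map_eq_maximalIdeal q.asIdeal (Loc q)]
  exact Ideal.map_mono hq

theorem isUnit_loc {g : H} {q : PrimeSpectrum (D H Kb)} (hg : algebraMap H (D H Kb) g ∉ q.asIdeal) :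
    IsUnit (algebraMap H (Loc q) g) := by
  rw [IsScalarTower.algebraMap_apply H (D H Kb) (Loc q)]
  exact IsLocalization.map_units (Loc q) (⟨_, hg⟩ : q.asIdeal.primeCompl)

end Closure

section Glue

variable {H : Type u} [CommRing H] [IsDomain H] {I : Ideal H}
  (K : Type u) {Kb : Type u} [Field K] [Algebra H K] [IsFractionRing H K] [Field Kb] [Algebra K Kb]
  [Algebra H Kb] [IsScalarTower H K Kb] [IsAlgClosure K Kb]
  {ι : Type v} {gs : ι → H} (hcov : I ⊔ Ideal.span (Set.range gs) = ⊤)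
  {Ps : ι → Type u} [∀ i, CommRing (Ps i)] [∀ i, Algebra H (Ps i)]
  (hP : ∀ i, IsAway I (gs i) (Ps i))
  {Qs : ι → ι → Type u} [∀ i j, CommRing (Qs i j)] [∀ i j, Algebra H (Qs i j)]
  (hQ : ∀ i j, IsAway I (gs i * gs j) (Qs i j))
  (σ : ∀ i j, Ps i →ₐ[H] Qs i j) (τ : ∀ i j, Ps j →ₐ[H] Qs i j)
  (s : ∀ i, Ps i) (hs : ∀ i j, σ i j (s i) = τ i j (s j))

variable [IsFractionRing (D H Kb) Kb]

/-- The common value of the family at a prime of the integral closure. -/
def IsVal (q : PrimeSpectrum (D H Kb)) (y : Kb) : Prop :=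
  ∀ i, algebraMap H (D H Kb) (gs i) ∉ q.asIdeal → ∀ f : Ps i →ₐ[H] Loc q, (f (s i) : Kb) = y

omit [IsDomain H] [Field K] [Algebra H K] [IsFractionRing H K] [Algebra K Kb]
  [IsScalarTower H K Kb] [IsAlgClosure K Kb] in
include hcov in
theorem exists_notMem {q : PrimeSpectrum (D H Kb)} (hq : I.map (algebraMap H (D H Kb)) ≤ q.asIdeal) :
    ∃ i, algebraMap H (D H Kb) (gs i) ∉ q.asIdeal := by
  by_contra! hall
  have h1 : I ⊔ Ideal.span (Set.range gs) ≤ q.asIdeal.comap (algebraMap H (D H Kb)) :=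
    sup_le (Ideal.map_le_iff_le_comap.mp hq) (Ideal.span_le.mpr (by rintro _ ⟨i, rfl⟩; exact hall i))
  rw [hcov, top_le_iff, Ideal.comap_eq_top_iff] at h1
  exact q.isPrime.ne_top h1

include K hP in
theorem exists_toLoc {q : PrimeSpectrum (D H Kb)} (hq : I.map (algebraMap H (D H Kb)) ≤ q.asIdeal)
    {i : ι} (hi : algebraMap H (D H Kb) (gs i) ∉ q.asIdeal) : Nonempty (Ps i →ₐ[H] Loc q) := by
  have := henselianLocalRing_loc K q
  exact (hP i).exists_algHom (J := maximalIdeal (Loc q)) inferInstance (map_le_loc hq) (isUnit_loc hi)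

include K hcov hP hQ hs in
theorem exists_isVal {q : PrimeSpectrum (D H Kb)} (hq : I.map (algebraMap H (D H Kb)) ≤ q.asIdeal) :
    ∃ y : Kb, IsVal (gs := gs) s q y := by
  obtain ⟨i, hi⟩ := exists_notMem hcov hq
  obtain ⟨f⟩ := exists_toLoc K hP hq hi
  refine ⟨f (s i), fun j hj f' => ?_⟩
  have hjac : I.map (algebraMap H (Loc q)) ≤ Ideal.jacobson ⊥ := by
    have := isLocalRing_loc q
    exact (map_le_loc hq).trans (IsLocalRing.maximalIdeal_le_jacobson _)
  have := henselianLocalRing_loc K q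
  obtain ⟨ψ⟩ := (hQ i j).exists_algHom (C := Loc q) (J := maximalIdeal (Loc q)) inferInstance
    (map_le_loc hq) (by rw [map_mul]; exact (isUnit_loc hi).mul (isUnit_loc hj))
  rw [(hP j).algHom_eq hjac f' (ψ.comp (τ i j)), (hP i).algHom_eq hjac f (ψ.comp (σ i j))]
  exact congrArg (fun z => (ψ z : Kb)) (hs i j).symm

include K hcov hP hQ hs in
theorem exists_const_val (hH : HenselianRing H I) :
    ∃ y : Kb, ∀ q : PrimeSpectrum (D H Kb), I.map (algebraMap H (D H Kb)) ≤ q.asIdeal →
      IsVal (gs := gs) s q y := by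
  classical
  let ID := I.map (algebraMap H (D H Kb))
  have hD : HenselianRing (D H Kb) ID := henselianRing_of_isIntegral hH
  let E := D H Kb ⧸ ID
  let pt : PrimeSpectrum E → PrimeSpectrum (D H Kb) := PrimeSpectrum.comap (Ideal.Quotient.mk ID)
  have hpt : ∀ p, ID ≤ (pt p).asIdeal := fun p a ha => by
    show Ideal.Quotient.mk ID a ∈ p.asIdeal
    rw [Ideal.Quotient.eq_zero_iff_mem.mpr ha]; exact zero_mem _
  choose v hv using fun p => exists_isVal K hcov hP hQ σ τ s hs (hpt p)
  have hne : ID ≠ ⊤ := by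
    obtain ⟨M, hM⟩ := Ideal.exists_maximal (D H Kb)
    exact fun h => hM.ne_top (top_le_iff.mp (h ▸ hD.jac.trans (sInf_le ⟨bot_le, hM⟩)))
  have : Nontrivial E := Ideal.Quotient.nontrivial_iff.mpr hne
  have : PreconnectedSpace (PrimeSpectrum E) := by
    exact preconnectedSpace_quotient hD
  have hloc : IsLocallyConstant v := by
    rw [IsLocallyConstant.iff_exists_open]
    intro p
    obtain ⟨i, hi⟩ := exists_notMem hcov (hpt p)
    obtain ⟨f⟩ := exists_toLoc K hP (hpt p) hi
    obtain ⟨S, _, _, _, κ, ⟨t, ht⟩, hmod, -⟩ := (hP i).exists_nbhd (s i)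
    let f₀ : S →ₐ[H] Kb := ((Loc (pt p)).val.restrictScalars H).comp (f.comp κ)
    obtain ⟨G, hG⟩ := (inferInstance : Algebra.FiniteType H S).out
    choose a d hd had using fun x : S => mem_loc.mp (f (κ x)).2
    let b : D H Kb := algebraMap H (D H Kb) (gs i) * ∏ x ∈ G, d x
    refine ⟨PrimeSpectrum.basicOpen (Ideal.Quotient.mk ID b), (PrimeSpectrum.basicOpen _).2, ?_,
      fun p' hp' => ?_⟩
    · show b ∉ (pt p).asIdeal
      refine (pt p).isPrime.mem_or_mem.mt ?_ |>.imp id
      push_neg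
      exact ⟨hi, fun h => by
        obtain ⟨x, -, hx⟩ := (pt p).isPrime.prod_mem_iff.mp h
        exact hd x hx⟩
    have hb : b ∉ (pt p').asIdeal := hp'
    have hi' : algebraMap H (D H Kb) (gs i) ∉ (pt p').asIdeal :=
      fun h => hb (Ideal.mul_mem_right _ _ h)
    have hd' : ∀ x ∈ G, d x ∉ (pt p').asIdeal := fun x hx h =>
      hb (Ideal.mul_mem_left _ _ (Ideal.mem_of_dvd _ (Finset.dvd_prod_of_mem d hx) h))
    have hmem : ∀ x, f₀ x ∈ Loc (pt p') := by
      intro x
      have : Algebra.adjoin H (G : Set S) ≤ ((Loc (pt p')).restrictScalars H).comap f₀ :=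
        Algebra.adjoin_le fun x hx => mem_loc.mpr ⟨a x, d x, hd' x hx, had x⟩
      exact this (hG ▸ Algebra.mem_top)
    let f₁ : S →ₐ[H] Loc (pt p') :=
      { toFun := fun x => ⟨f₀ x, hmem x⟩
        map_one' := Subtype.ext (map_one f₀)
        map_mul' := fun x y => Subtype.ext (map_mul f₀ x y)
        map_zero' := Subtype.ext (map_zero f₀)
        map_add' := fun x y => Subtype.ext (map_add f₀ x y)
        commutes' := fun x => Subtype.ext (f₀.commutes x) }
    obtain ⟨f'⟩ := exists_toLoc K hP (hpt p') hi'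
    have := henselianLocalRing_loc K (pt p')
    have h12 : f₁ = f'.comp κ := by
      refine algHom_ext_of_le_jacobson (IsLocalRing.maximalIdeal_le_jacobson _) fun x => ?_
      obtain ⟨c, n, hc⟩ := hmod x
      have key : ∀ h : S →ₐ[H] Loc (pt p'),
          h x * algebraMap H (Loc (pt p')) (gs i) ^ n - algebraMap H _ c ∈ maximalIdeal _ := fun h => by
        have := map_le_loc (hpt p') (map_map_algHom I h ▸ Ideal.mem_map_of_mem h.toRingHom hc)
        simpa using this
      have := sub_mem (key f₁) (key (f'.comp κ))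
      rw [sub_sub_sub_cancel_right, ← sub_mul] at this
      exact (IsLocalRing.maximalIdeal.isMaximal _).isPrime.mem_or_mem this |>.resolve_right
        fun h => (IsLocalRing.mem_maximalIdeal _).mp h ((isUnit_loc hi').pow n)
    rw [← hv p' i hi' f', ← hv p i hi f, ← ht]
    exact (congrArg (fun h : S →ₐ[H] Loc (pt p') => (h t : Kb)) h12).symm
  obtain ⟨p₀⟩ : Nonempty (PrimeSpectrum E) := inferInstance
  refine ⟨v p₀, fun q hq => ?_⟩
  obtain ⟨p, rfl⟩ : q ∈ Set.range pt := by
    rw [range_comap_of_surjective _ _ Ideal.Quotient.mk_surjective, Ideal.mk_ker]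
    exact hq
  rw [← hloc.apply_eq_of_preconnectedSpace p p₀]
  exact hv p

include K hcov hP hQ hs in
theorem exists_value (hH : HenselianRing H I) :
    ∃ y : Kb, ∀ i (ρ : Ps i →ₐ[H] Kb), ρ (s i) = y := by
  classical
  obtain ⟨y, hy⟩ := exists_const_val K (Kb := Kb) hcov hP hQ σ τ s hs hH
  refine ⟨y, fun i ρ => ?_⟩
  let R := ρ.toRingHom.range
  have : (RingHom.ker ρ.toRingHom).IsPrime := RingHom.ker_isPrime _
  have hne : (I.map (algebraMap H (Ps i))).map ρ.toRingHom.rangeRestrict ≠ ⊤ := by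
    intro h
    have h1 := congrArg (Ideal.comap ρ.toRingHom.rangeRestrict) h
    rw [Ideal.comap_map_of_surjective' _ ρ.toRingHom.rangeRestrict_surjective, Ideal.comap_top,
      RingHom.ker_rangeRestrict] at h1
    obtain ⟨M, hM, hle⟩ := Ideal.exists_le_maximal _ (RingHom.ker_ne_top ρ.toRingHom)
    exact hM.ne_top (top_le_iff.mp (h1 ▸ sup_le ((hP i).2.1.jac.trans (sInf_le ⟨bot_le, hM⟩)) hle))
  obtain ⟨V, hRV, hIV⟩ := Ideal.image_subset_nonunits_valuationSubring _ hne
  let ρV : Ps i →+* V := ρ.toRingHom.codRestrict V.toSubring fun x => hRV ⟨x, rfl⟩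
  let _ : Algebra H V := (ρV.comp (algebraMap H (Ps i))).toAlgebra
  have : IsScalarTower H V Kb := IsScalarTower.of_algebraMap_eq (R := H) (S := V) (A := Kb) fun x =>
    (ρ.commutes x).symm
  have hIm : I.map (algebraMap H V) ≤ maximalIdeal V := Ideal.map_le_iff_le_comap.mpr fun a ha => by
    refine V.coe_mem_nonunits_iff.mp ?_
    exact hIV ⟨_, Ideal.mem_map_of_mem _ (Ideal.mem_map_of_mem _ ha), rfl⟩
  have hDV : ∀ d : D H Kb, (d : Kb) ∈ V := fun d => by
    obtain ⟨z, hz⟩ := IsIntegrallyClosed.isIntegral_iff.mp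
      (IsIntegral.tower_top (A := V) (d.2 : IsIntegral H (d : Kb)))
    exact hz ▸ z.2
  let ιD : D H Kb →+* V := (D H Kb).val.toRingHom.codRestrict V.toSubring hDV
  have hιD : ∀ x, ιD (algebraMap H (D H Kb) x) = algebraMap H V x := fun x =>
    Subtype.ext ((ρ.commutes x).symm)
  let q : PrimeSpectrum (D H Kb) := ⟨(maximalIdeal V).comap ιD, Ideal.comap_isPrime _ _⟩
  have hq : I.map (algebraMap H (D H Kb)) ≤ q.asIdeal := Ideal.map_le_iff_le_comap.mpr fun a ha => by
    show ιD _ ∈ maximalIdeal V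
    rw [hιD]; exact hIm (Ideal.mem_map_of_mem _ ha)
  have hi : algebraMap H (D H Kb) (gs i) ∉ q.asIdeal := fun h => by
    have h1 : ιD (algebraMap H (D H Kb) (gs i)) ∈ maximalIdeal V := h
    rw [hιD] at h1
    exact (IsLocalRing.mem_maximalIdeal _).mp h1 ((hP i).1.map ρV)
  obtain ⟨f⟩ := exists_toLoc K hP hq hi
  have hLV : ∀ z : Loc q, (z : Kb) ∈ V := fun z => by
    obtain ⟨a, d, hd, hz⟩ := mem_loc.mp z.2
    have hu : IsUnit (ιD d) := by
      by_contra hu
      exact hd ((IsLocalRing.mem_maximalIdeal _).mpr hu)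
    obtain ⟨w, hw⟩ := hu.exists_right_inv
    rw [hz, show ((d : Kb))⁻¹ = (w : Kb) from inv_eq_of_mul_eq_one_right congr(($hw : Kb))]
    exact mul_mem (hDV a) w.2
  let ρ₁ : Ps i →ₐ[H] V := { ρV with commutes' := fun x => rfl }
  let ρ₂ : Ps i →ₐ[H] V :=
    { toFun := fun x => ⟨f x, hLV (f x)⟩
      map_one' := Subtype.ext congr(($(map_one f) : Kb))
      map_mul' := fun x y => Subtype.ext congr(($(map_mul f x y) : Kb))
      map_zero' := Subtype.ext congr(($(map_zero f) : Kb))
      map_add' := fun x y => Subtype.ext congr(($(map_add f x y) : Kb))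
      commutes' := fun x => Subtype.ext (by
        show ((f (algebraMap H (Ps i) x)) : Kb) = _
        rw [f.commutes]; exact (ρ.commutes x).symm) }
  have h12 := (hP i).algHom_eq (hIm.trans (IsLocalRing.maximalIdeal_le_jacobson _)) ρ₁ ρ₂
  exact (congrArg (fun h : Ps i →ₐ[H] V => (h (s i) : Kb)) h12).trans (hy q hq i hi f)

end Glue

section Rational

variable {H : Type u} [CommRing H] [IsDomain H] {I : Ideal H} {g : H} {P : Type u} [CommRing P]
  [Algebra H P] (K : Type u) [Field K] [Algebra H K] [IsFractionRing H K]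

theorem IsAway.isSeparable (hP : IsAway I g P) {F : Type u} [Field F] [Algebra K F] [Algebra H F]
    [IsScalarTower H K F] (ρ : P →ₐ[H] F) (x : P) : IsSeparable K (ρ x) := by
  obtain ⟨S, _, _, _, κ, ⟨t, rfl⟩, -, -⟩ := hP.exists_nbhd x
  let χ : TensorProduct H K S →ₐ[K] F :=
    Algebra.TensorProduct.lift (Algebra.ofId K F) (ρ.comp κ) fun _ _ => Commute.all _ _
  have h := isSeparable_algHom_apply χ (1 ⊗ₜ[H] t)
  rwa [Algebra.TensorProduct.lift_tmul, map_one, one_mul] at h

theorem IsAway.isReduced (hP : IsAway I g P) : IsReduced P := by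
  refine ⟨fun x hx => ?_⟩
  obtain ⟨S, _, _, _, κ, ⟨t, rfl⟩, -, hz⟩ := hP.exists_nbhd x
  obtain ⟨n, hn⟩ := hx
  rw [← map_pow] at hn
  obtain ⟨S', _, _, _, φ, κ', hκ, hφ⟩ := hz _ hn
  have := isReduced_of_etale H S'
  rw [map_pow] at hφ
  rw [← hκ, AlgHom.comp_apply, IsReduced.eq_zero (φ t) ⟨n, hφ⟩, map_zero]

theorem IsAway.exists_toClosure (hP : IsAway I g P) {Kb : Type u} [Field Kb] [Algebra K Kb]
    [Algebra H Kb] [IsScalarTower H K Kb] [IsAlgClosure K Kb] (n : Ideal P) (hn : n ∈ minimalPrimes P) :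
    ∃ ρ : P →ₐ[H] Kb, RingHom.ker ρ.toRingHom = n := by
  have := IsAlgClosure.isAlgClosed K (K := Kb)
  have := hP.flat
  have hnp : n.IsPrime := Ideal.minimalPrimes_isPrime hn
  have hinj : Function.Injective (algebraMap H (P ⧸ n)) := by
    rw [injective_iff_map_eq_zero]
    intro a ha
    by_contra ha0
    refine Set.disjoint_left.mp (Ideal.disjoint_nonZeroDivisors_of_mem_minimalPrimes hn)
      (Ideal.Quotient.eq_zero_iff_mem.mp ha) ?_
    rw [SetLike.mem_coe, mem_nonZeroDivisors_iff_right]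
    intro z hz
    have hr : Function.Injective (fun z : P => a • z) :=
      (Module.Flat.isSMulRegular_of_nonZeroDivisors (mem_nonZeroDivisors_of_ne_zero ha0) : IsSMulRegular P a)
    exact hr (by simp [Algebra.smul_def, mul_comm _ z, hz])
  have : FaithfulSMul H (P ⧸ n) := (faithfulSMul_iff_algebraMap_injective _ _).mpr hinj
  let F := FractionRing (P ⧸ n)
  let _ : Algebra K F :=
    ((IsFractionRing.lift (g := algebraMap H F) (by
      rw [IsScalarTower.algebraMap_eq H (P ⧸ n) F]
      exact (IsFractionRing.injective (P ⧸ n) F).comp hinj) : K →+* F)).toAlgebra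
  have : IsScalarTower H K F := IsScalarTower.of_algebraMap_eq (R := H) (S := K) (A := F) fun x =>
    (IsFractionRing.lift_algebraMap _ x).symm
  have : Algebra.IsAlgebraic H (P ⧸ n) := ⟨fun z => by
    obtain ⟨x, rfl⟩ := Ideal.Quotient.mk_surjective z
    have h := hP.isSeparable K ((IsScalarTower.toAlgHom H (P ⧸ n) F).comp (Ideal.Quotient.mkₐ H n)) x
    have h' := (IsFractionRing.isAlgebraic_iff H K F).mpr h.isIntegral.isAlgebraic
    exact (isAlgebraic_algebraMap_iff (IsFractionRing.injective (P ⧸ n) F)).mp h'⟩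
  have : FaithfulSMul H Kb := (faithfulSMul_iff_algebraMap_injective _ _).mpr (by
    rw [IsScalarTower.algebraMap_eq H K Kb]
    exact (algebraMap K Kb).injective.comp (IsFractionRing.injective H K))
  let j : (P ⧸ n) →ₐ[H] Kb := IsAlgClosed.lift
  refine ⟨j.comp (Ideal.Quotient.mkₐ H n), ?_⟩
  ext z
  rw [RingHom.mem_ker]
  show j (Ideal.Quotient.mk n z) = 0 ↔ _
  refine ⟨fun h => ?_, fun h => by rw [Ideal.Quotient.eq_zero_iff_mem.mpr h, map_zero]⟩
  by_contra hz
  have h0 := Ideal.comap_ne_bot_of_algebraic_mem (R := H) (I := RingHom.ker j.toRingHom)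
    (fun he => hz (Ideal.Quotient.eq_zero_iff_mem.mp he)) h (Algebra.IsAlgebraic.isAlgebraic _)
  refine h0 ((Submodule.eq_bot_iff _).mpr fun a ha => ?_)
  rw [Ideal.mem_comap, RingHom.mem_ker] at ha
  exact FaithfulSMul.algebraMap_injective H Kb (((j.commutes a).symm.trans ha).trans (map_zero _).symm)

end Rational

/-- Gluing over a henselian pair with a domain as underlying ring. -/
theorem exists_glue_of_domain {H : Type u} [CommRing H] [IsDomain H] {I : Ideal H}
    (hH : HenselianRing H I) {ι : Type v} (gs : ι → H) (hcov : I ⊔ Ideal.span (Set.range gs) = ⊤)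
    (Ps : ι → Type u) [∀ i, CommRing (Ps i)] [∀ i, Algebra H (Ps i)]
    (hP : ∀ i, IsAway I (gs i) (Ps i))
    (Qs : ι → ι → Type u) [∀ i j, CommRing (Qs i j)] [∀ i j, Algebra H (Qs i j)]
    (hQ : ∀ i j, IsAway I (gs i * gs j) (Qs i j))
    (σ : ∀ i j, Ps i →ₐ[H] Qs i j) (τ : ∀ i j, Ps j →ₐ[H] Qs i j)
    (s : ∀ i, Ps i) (hs : ∀ i j, σ i j (s i) = τ i j (s j)) :
    ∃ x : H, ∀ i, algebraMap H (Ps i) x = s i := by
  classical
  let K := FractionRing H
  let Kb := AlgebraicClosure K
  have : IsFractionRing (D H Kb) Kb := isFractionRing_D H K Kb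
  obtain ⟨y, hy⟩ := exists_value K (Kb := Kb) hcov hP hQ σ τ s hs hH
  have : IsScalarTower H K Kb := inferInstance
  obtain ⟨M, hM⟩ := Ideal.exists_maximal H
  have hIM : I ≤ M := hH.jac.trans (sInf_le ⟨bot_le, hM⟩)
  obtain ⟨i₀, hi₀⟩ : ∃ i, gs i ∉ M := by
    by_contra! hall
    exact hM.ne_top (top_le_iff.mp (hcov ▸ sup_le hIM (Ideal.span_le.mpr
      (by rintro _ ⟨i, rfl⟩; exact hall i))))
  have : Nontrivial (Ps i₀) := by
    by_contra h
    rw [not_nontrivial_iff_subsingleton] at h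
    exact (hP i₀).map_ne_top M hIM hi₀ (Subsingleton.elim _ _)
  obtain ⟨n₀, hn₀⟩ := Ideal.nonempty_minimalPrimes (I := (⊥ : Ideal (Ps i₀))) bot_ne_top
  obtain ⟨ρ₀, -⟩ := (hP i₀).exists_toClosure K (Kb := Kb) n₀ hn₀
  have hsep : IsSeparable K y := hy i₀ ρ₀ ▸ (hP i₀).isSeparable K ρ₀ (s i₀)
  have hfix : ∀ e : Kb ≃ₐ[K] Kb, e y = y := fun e => by
    conv_lhs => rw [← hy i₀ ρ₀]
    exact hy i₀ ((e.toAlgHom.restrictScalars H).comp ρ₀)
  obtain ⟨c, hc⟩ : y ∈ (algebraMap K Kb).range := by
    by_contra hmem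
    obtain ⟨z, hz, hconj⟩ := (notMem_iff_exists_ne_and_isConjRoot hsep (IsAlgClosed.splits _)).mp
      (fun h => hmem (Algebra.mem_bot.mp h))
    obtain ⟨e, he⟩ := (isConjRoot_iff_exists_algEquiv (K := K)).mp hconj
    refine hz (e.injective ?_)
    exact ((hfix e).trans he.symm)
  obtain ⟨a, b, hb, hab⟩ := IsFractionRing.div_surjective H c
  have hb0 : b ≠ 0 := nonZeroDivisors.ne_zero hb
  have hba : ∀ i, algebraMap H (Ps i) b * s i = algebraMap H (Ps i) a := fun i => by
    have := (hP i).isReduced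
    rw [← sub_eq_zero]
    refine IsNilpotent.eq_zero ?_
    rw [← mem_nilradical, nilradical, ← Ideal.sInf_minimalPrimes, Submodule.mem_sInf]
    intro n hn
    obtain ⟨ρ, rfl⟩ := (hP i).exists_toClosure K (Kb := Kb) n hn
    rw [RingHom.mem_ker]
    show ρ _ = 0
    rw [map_sub, map_mul, ρ.commutes, ρ.commutes, hy i ρ, ← hc, ← hab, map_div₀,
      ← IsScalarTower.algebraMap_apply, ← IsScalarTower.algebraMap_apply, mul_div_cancel₀,
      sub_self]
    rw [IsScalarTower.algebraMap_apply H K Kb]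
    exact fun h => hb0 (IsFractionRing.to_map_eq_zero_iff.mp ((map_eq_zero _).mp h))
  have hdvd : a ∈ Ideal.span {b} := mem_of_forall hH.jac gs hcov Ps hP _ a fun i => by
    rw [Ideal.map_span, Set.image_singleton, Ideal.mem_span_singleton]
    exact ⟨s i, (hba i).symm⟩
  obtain ⟨x, rfl⟩ := Ideal.mem_span_singleton.mp hdvd
  refine ⟨x, fun i => ?_⟩
  have := (hP i).flat
  refine (Module.Flat.isSMulRegular_of_nonZeroDivisors hb : IsSMulRegular (Ps i) b) ?_
  simp only [Algebra.smul_def]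
  rw [hba i, map_mul]

end Groth.Agent.HensGlue6
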