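import Groth.Agent.Lib.HensGlue6.Domain
import Groth.Agent.Lib.HensH7.PairNoetherian
import Groth.Agent.S9330
import Mathlib

/-! # The sheaf condition for henselizations along basic opens -/

set_option autoImplicit false
universe u v

namespace Groth.Agent.HensGlue6

open Groth.Agent.Hens Groth.Agent.HfpH6

/-- `Q` is a henselization over an intermediate henselization `P`. -/
theorem isAway_over {H : Type u} [CommRing H] {I : Ideal H} {g g' k : H} {P Q : Type u} [CommRing P]
    [CommRing Q] [Algebra H P] [Algebra H Q] [Algebra P Q] [IsScalarTower H P Q]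
    (hP : IsAway I g' P) (hQ : IsAway I g Q) (hg : g = k * g') :
    IsAway (I.map (algebraMap H P)) (algebraMap H P k) Q := by
  subst hg
  refine ⟨?_, ?_, fun C _ JC f hC hf hu => ?_⟩
  · rw [← IsScalarTower.algebraMap_apply]
    have h := hQ.1
    rw [map_mul] at h
    exact isUnit_of_mul_isUnit_left h
  · rw [map_map_of_tower]; exact hQ.2.1
  rw [Ideal.map_map] at hf
  have hu' : IsUnit ((f.comp (algebraMap H P)) g') := hP.1.map f
  obtain ⟨h, hh, huniq⟩ := hQ.2.2 C JC (f.comp (algebraMap H P)) hC hf (by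
    rw [map_mul]; exact hu.mul hu')
  refine ⟨h, (hP.2.2 C JC (f.comp (algebraMap H P)) hC hf hu').unique ?_ rfl, fun h' hh' => huniq h' ?_⟩
  · rw [RingHom.comp_assoc, ← IsScalarTower.algebraMap_eq]; exact hh
  · show h'.comp (algebraMap H Q) = _
    rw [IsScalarTower.algebraMap_eq H P Q, ← RingHom.comp_assoc, hh']

section Noetherian

variable {H : Type u} [CommRing H] {I : Ideal H} {ι : Type v}
    (Ps : ι → Type u) [∀ i, CommRing (Ps i)] [∀ i, Algebra H (Ps i)]
    (Qs : ι → ι → Type u) [∀ i j, CommRing (Qs i j)] [∀ i j, Algebra H (Qs i j)]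
    (σ : ∀ i j, Ps i →ₐ[H] Qs i j) (τ : ∀ i j, Ps j →ₐ[H] Qs i j)

/-- Compatible families modulo `J` come from `H` modulo `J`. -/
def Good (J : Ideal H) : Prop :=
  ∀ s : ∀ i, Ps i, (∀ i j, σ i j (s i) - τ i j (s j) ∈ J.map (algebraMap H (Qs i j))) →
    ∃ x : H, ∀ i, algebraMap H (Ps i) x - s i ∈ J.map (algebraMap H (Ps i))

theorem good_of_isPrime (hH : HenselianRing H I) (gs : ι → H)
    (hcov : I ⊔ Ideal.span (Set.range gs) = ⊤) (hP : ∀ i, IsAway I (gs i) (Ps i))
    (hQ : ∀ i j, IsAway I (gs i * gs j) (Qs i j)) (J : Ideal H) [J.IsPrime] :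
    Good Ps Qs σ τ J := by
  intro s hs
  let q := Ideal.Quotient.mk J
  let JP : ∀ i, Ideal (Ps i) := fun i => J.map (algebraMap H (Ps i))
  let σ' : ∀ i j, (Ps i ⧸ J.map (algebraMap H (Ps i))) →ₐ[H ⧸ J]
      (Qs i j ⧸ J.map (algebraMap H (Qs i j))) := fun i j =>
    { Ideal.quotientMap _ (σ i j).toRingHom (Ideal.map_le_iff_le_comap.mp (map_map_algHom J (σ i j)).le) with
      commutes' := fun x => by
        obtain ⟨x, rfl⟩ := Ideal.Quotient.mk_surjective x
        show Ideal.Quotient.mk _ (σ i j (algebraMap H (Ps i) x)) = _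
        rw [(σ i j).commutes]; rfl }
  let τ' : ∀ i j, (Ps j ⧸ J.map (algebraMap H (Ps j))) →ₐ[H ⧸ J]
      (Qs i j ⧸ J.map (algebraMap H (Qs i j))) := fun i j =>
    { Ideal.quotientMap _ (τ i j).toRingHom (Ideal.map_le_iff_le_comap.mp (map_map_algHom J (τ i j)).le) with
      commutes' := fun x => by
        obtain ⟨x, rfl⟩ := Ideal.Quotient.mk_surjective x
        show Ideal.Quotient.mk _ (τ i j (algebraMap H (Ps j) x)) = _
        rw [(τ i j).commutes]; rfl }
  have hcov' : I.map q ⊔ Ideal.span (Set.range fun i => q (gs i)) = ⊤ := by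
    rw [show (fun i => q (gs i)) = q ∘ gs from rfl, Set.range_comp, ← Ideal.map_span, ← Ideal.map_sup,
      hcov, Ideal.map_top]
  obtain ⟨x, hx⟩ := exists_glue_of_domain (henselianRing_of_isIntegral hH : HenselianRing (H ⧸ J) (I.map q))
    (fun i => q (gs i)) hcov' _ (fun i => (hP i).quotient J) _
    (fun i j => by
      show IsAway _ (q (gs i) * q (gs j)) _
      rw [← map_mul]
      exact (hQ i j).quotient J) σ' τ'
    (fun i => Ideal.Quotient.mk _ (s i)) fun i j => Ideal.Quotient.eq.mpr (hs i j)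
  obtain ⟨x, rfl⟩ := Ideal.Quotient.mk_surjective x
  exact ⟨x, fun i => Ideal.Quotient.eq.mp (hx i)⟩

theorem good_of_noetherian [IsNoetherianRing H] (hH : HenselianRing H I) (gs : ι → H)
    (hcov : I ⊔ Ideal.span (Set.range gs) = ⊤) (hP : ∀ i, IsAway I (gs i) (Ps i))
    (hQ : ∀ i j, IsAway I (gs i * gs j) (Qs i j)) (J : Ideal H) :
    Good Ps Qs σ τ J := by
  induction J using IsNoetherian.induction with
  | hgt J ih =>
  change Ideal H at J
  by_cases hJ : Ideal.IsPrime J
  · exact good_of_isPrime Ps Qs σ τ hH gs hcov hP hQ J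
  rcases eq_or_ne J ⊤ with rfl | hne
  · exact fun s _ => ⟨0, fun i => by rw [Ideal.map_top]; exact Submodule.mem_top⟩
  rw [Ideal.isPrime_iff] at hJ
  push Not at hJ
  obtain ⟨a, b, hab, ha, hb⟩ := hJ hne
  intro s hs
  obtain ⟨x, hx⟩ := ih (J ⊔ Ideal.span {a}) (left_lt_sup.mpr fun h => ha (h (Ideal.mem_span_singleton_self a)))
    s fun i j => Ideal.map_mono le_sup_left (hs i j)
  have hdec : ∀ i, ∃ t : Ps i, algebraMap H (Ps i) x - s i - algebraMap H (Ps i) a * t ∈
      J.map (algebraMap H (Ps i)) := fun i => by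
    have h := hx i
    rw [Ideal.map_sup, Ideal.map_span, Set.image_singleton, Submodule.mem_sup] at h
    obtain ⟨j₀, hj, z, hz, he⟩ := h
    obtain ⟨t, rfl⟩ := Ideal.mem_span_singleton.mp hz
    exact ⟨t, by rw [← he]; simpa using hj⟩
  choose t ht using hdec
  have hflat : ∀ i j, Module.Flat H (Qs i j) := fun i j => (hQ i j).flat
  have htc : ∀ i j, σ i j (t i) - τ i j (t j) ∈ (J.colon {a}).map (algebraMap H (Qs i j)) := by
    intro i j
    have := hflat i j
    refine mem_colon_map J a _ ?_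
    have h1 : σ i j (algebraMap H (Ps i) x - s i - algebraMap H (Ps i) a * t i) ∈
        J.map (algebraMap H (Qs i j)) :=
      map_map_algHom J (σ i j) ▸ Ideal.mem_map_of_mem (σ i j).toRingHom (ht i)
    have h2 : τ i j (algebraMap H (Ps j) x - s j - algebraMap H (Ps j) a * t j) ∈
        J.map (algebraMap H (Qs i j)) :=
      map_map_algHom J (τ i j) ▸ Ideal.mem_map_of_mem (τ i j).toRingHom (ht j)
    have h3 := neg_mem (add_mem (sub_mem h1 h2) (hs i j))
    simp only [map_sub, map_mul, AlgHom.commutes] at h3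
    convert h3 using 1
    ring
  have hlt : J < J.colon {a} := by
    refine lt_of_le_of_ne (fun z hz => ?_) fun h => hb (h ▸ ?_)
    · rw [Submodule.mem_colon_singleton, smul_eq_mul]; exact Ideal.mul_mem_right _ _ hz
    · rw [Submodule.mem_colon_singleton, smul_eq_mul, mul_comm]; exact hab
  obtain ⟨y, hy⟩ := ih _ hlt t htc
  refine ⟨x - a * y, fun i => ?_⟩
  have h1 : algebraMap H (Ps i) a * (algebraMap H (Ps i) y - t i) ∈ J.map (algebraMap H (Ps i)) := by
    have h2 := Ideal.mul_mem_mul (Ideal.mem_map_of_mem (algebraMap H (Ps i))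
      (Ideal.mem_span_singleton_self a)) (hy i)
    rw [← Ideal.map_mul] at h2
    refine Ideal.map_mono ?_ h2
    rw [Ideal.span_singleton_mul_le_iff]
    intro z hz
    rw [Submodule.mem_colon_singleton, smul_eq_mul] at hz
    rwa [mul_comm]
  have h4 := sub_mem (ht i) h1
  convert h4 using 1
  rw [map_sub, map_mul]
  ring

end Noetherian

section Colimit

variable {A : Type u} [CommRing A] {T : Type u} [Preorder T] [IsDirectedOrder T] [Nonempty T]

/-- Henselizations along a basic open commute with directed unions of subrings. -/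
theorem exists_stage (S : T → Subalgebra ℤ A) (hS : Monotone S) (hcovS : ∀ a : A, ∃ t, a ∈ S t)
    (I : Ideal A) (g : A) (hg : ∀ t, g ∈ S t) (P : T → Type u) [∀ t, CommRing (P t)]
    [∀ t, Algebra (S t) (P t)] (hP : ∀ t, IsAway (I.comap (S t).val) ⟨g, hg t⟩ (P t))
    {P' : Type u} [CommRing P'] [Algebra A P'] (hP' : IsAway I g P')
    (Ψ : ∀ t, P t →+* P')
    (hΨ : ∀ t, (Ψ t).comp (algebraMap (S t) (P t)) = (algebraMap A P').comp (S t).val.toRingHom)
    (tr : ∀ t t', t ≤ t' → P t →+* P t')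
    (htr : ∀ t t' (h : t ≤ t'), (tr t t' h).comp (algebraMap (S t) (P t)) =
      (algebraMap (S t') (P t')).comp (Subalgebra.inclusion (hS h)).toRingHom) :
    (∀ x : P', ∃ t y, Ψ t y = x) ∧ ∀ t y, Ψ t y = 0 → ∃ t', ∃ h : t ≤ t', tr t t' h y = 0 := by
  let J : ∀ t, Ideal (P t) := fun t => (I.comap (S t).val).map (algebraMap (S t) (P t))
  have huniq : ∀ (t t' : T) (_ : t ≤ t') (f f' : P t →+* P t'),
      f.comp (algebraMap (S t) (P t)) = f'.comp (algebraMap (S t) (P t)) →
      (∀ a, f (algebraMap (S t) (P t) a) =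
        algebraMap (S t') (P t') (Subalgebra.inclusion (hS ‹_›) a)) → f = f' := by
    intro t t' h f f' he hf
    refine ((hP t).2.2 (P t') (J t') (f.comp (algebraMap (S t) (P t))) (hP t').2.1 ?_ ?_).unique rfl he.symm
    · refine Ideal.map_le_iff_le_comap.mpr fun a ha => ?_
      rw [Ideal.mem_comap, RingHom.comp_apply, hf]
      exact Ideal.mem_map_of_mem _ ha
    · rw [RingHom.comp_apply, hf]
      exact (hP t').1
  have hsys : DirectedSystem P (fun t t' h => tr t t' h) := by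
    refine ⟨fun t y => ?_, fun {t'' t' t} h h' y => ?_⟩
    · exact congr($(huniq t t le_rfl (tr t t le_rfl) (RingHom.id _)
        (by rw [htr, RingHom.id_comp]; rfl) (fun a => congr($(htr t t le_rfl) a))) y)
    · refine congr($(huniq t t'' (h.trans h') ((tr t' t'' h').comp (tr t t' h)) (tr t t'' (h.trans h'))
        (RingHom.ext fun a => ?_) fun a => ?_) y)
      all_goals
        simp only [RingHom.comp_apply]
        rw [show tr t t' h (algebraMap (S t) (P t) a) = _ from congr($(htr t t' h) a)]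
      · rw [show tr t t'' _ (algebraMap (S t) (P t) a) = _ from congr($(htr t t'' (h.trans h')) a)]
        exact congr($(htr t' t'' h') (Subalgebra.inclusion (hS h) a))
      · exact congr($(htr t' t'' h') (Subalgebra.inclusion (hS h) a))
  let L := DirectLimit P tr
  let of : ∀ t, P t →+* L := DirectLimit.Ring.of P tr
  have hof : ∀ t t' (h : t ≤ t') (y : P t), of t' (tr t t' h y) = of t y := fun t t' h y =>
    DirectLimit.Ring.of_f h y
  choose pk hpk using hcovS
  let φ₀ : A → L := fun a => of (pk a) (algebraMap (S (pk a)) (P (pk a)) ⟨a, hpk a⟩)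
  have hφ₀ : ∀ (t : T) (a : A) (ha : a ∈ S t), φ₀ a = of t (algebraMap (S t) (P t) ⟨a, ha⟩) := by
    intro t a ha
    obtain ⟨t', h1, h2⟩ := exists_ge_ge t (pk a)
    show of _ _ = _
    rw [← hof t t' h1, ← hof (pk a) t' h2]
    exact congrArg (of t') ((congr($(htr (pk a) t' h2) ⟨a, hpk a⟩)).trans
      (congr($(htr t t' h1) ⟨a, ha⟩)).symm)
  let φ : A →+* L :=
    { toFun := φ₀
      map_one' := by
        rw [hφ₀ (pk 1) 1 (one_mem _)]
        exact ((congrArg (of _) (map_one _))).trans (map_one _)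
      map_mul' := fun a b => by
        obtain ⟨t, h1, h2⟩ := exists_ge_ge (pk a) (pk b)
        rw [hφ₀ t a (hS h1 (hpk a)), hφ₀ t b (hS h2 (hpk b)),
          hφ₀ t (a * b) (mul_mem (hS h1 (hpk a)) (hS h2 (hpk b))), ← map_mul, ← map_mul]
        rfl
      map_zero' := by
        rw [hφ₀ (pk 0) 0 (zero_mem _)]
        exact ((congrArg (of _) (map_zero _))).trans (map_zero _)
      map_add' := fun a b => by
        obtain ⟨t, h1, h2⟩ := exists_ge_ge (pk a) (pk b)
        rw [hφ₀ t a (hS h1 (hpk a)), hφ₀ t b (hS h2 (hpk b)),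
          hφ₀ t (a + b) (add_mem (hS h1 (hpk a)) (hS h2 (hpk b))), ← map_add, ← map_add]
        rfl }
  have hofφ : ∀ t, (of t).comp (algebraMap (S t) (P t)) = φ.comp (S t).val.toRingHom := fun t =>
    RingHom.ext fun a => (hφ₀ t a a.2).symm
  let _ : Algebra L L := Algebra.id L
  have hJmono : ∀ (t t' : T) (h : t ≤ t'), (J t).map (tr t t' h) ≤ J t' := fun t t' h => by
    rw [Ideal.map_map, htr, ← Ideal.map_map]
    refine Ideal.map_mono (Ideal.map_le_iff_le_comap.mpr fun a ha => ?_)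
    exact ha
  have hself : ∀ t, Hens2.IsPairHenselization (P t) (J t) (P t) := fun t => by
    refine ⟨by rw [Algebra.algebraMap_self, Ideal.map_id]; exact (hP t).2.1,
      fun C _ JC f _ _ => ⟨f, RingHom.comp_id f, fun h hh => ?_⟩⟩
    rw [← hh, Algebra.algebraMap_self, RingHom.comp_id]
  have hL := (S9330.result P tr J hJmono P hself tr (fun t t' h => by
    rw [Algebra.algebraMap_self, Algebra.algebraMap_self]; rfl) (fun t x => rfl)).1
  rw [Algebra.algebraMap_self, Ideal.map_id] at hL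
  have hIL : (⨆ t, (J t).map (of t)) = I.map φ := by
    refine le_antisymm (iSup_le fun t => ?_) (Ideal.map_le_iff_le_comap.mpr fun a ha => ?_)
    · rw [Ideal.map_map, hofφ, ← Ideal.map_map]
      exact Ideal.map_mono Ideal.map_comap_le
    · rw [Ideal.mem_comap]
      show φ₀ a ∈ _
      exact le_iSup (fun t => (J t).map (of t)) (pk a)
        (Ideal.mem_map_of_mem _ (Ideal.mem_map_of_mem _ (x := (⟨a, hpk a⟩ : S (pk a))) ha))
  rw [hIL] at hL
  have hgu : IsUnit (φ g) := by
    show IsUnit (φ₀ g)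
    rw [hφ₀ (pk g) g (hg _)]
    exact (hP (pk g)).1.map _
  obtain ⟨Φ, hΦ, -⟩ := hP'.2.2 L (I.map φ) φ hL le_rfl hgu
  have hΦΨ : ∀ t, Φ.comp (Ψ t) = of t := fun t => by
    refine ((hP t).2.2 L (I.map φ) (φ.comp (S t).val.toRingHom) hL ?_ ?_).unique ?_ (hofφ t)
    · rw [← Ideal.map_map]; exact Ideal.map_mono Ideal.map_comap_le
    · exact hgu
    · show (Φ.comp (Ψ t)).comp _ = _
      rw [RingHom.comp_assoc, hΨ, ← RingHom.comp_assoc, hΦ]
  have hΨtr : ∀ t t' (h : t ≤ t'), (Ψ t').comp (tr t t' h) = Ψ t := fun t t' h => by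
    refine ((hP t).2.2 P' (I.map (algebraMap A P')) ((algebraMap A P').comp (S t).val.toRingHom)
      hP'.2.1 ?_ hP'.1).unique ?_ (hΨ t)
    · rw [← Ideal.map_map]; exact Ideal.map_mono Ideal.map_comap_le
    · show ((Ψ t').comp (tr t t' h)).comp _ = _
      rw [RingHom.comp_assoc, htr, ← RingHom.comp_assoc, hΨ]
      rfl
  let Ψbar : L →+* P' := DirectLimit.Ring.lift P tr P' Ψ fun t t' h y => congr($(hΨtr t t' h) y)
  have hinv : Ψbar.comp Φ = RingHom.id P' := by
    refine (hP'.2.2 P' (I.map (algebraMap A P')) (algebraMap A P') hP'.2.1 le_rfl hP'.1).unique ?_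
      (RingHom.id_comp _)
    refine RingHom.ext fun a => ?_
    show Ψbar (Φ (algebraMap A P' a)) = _
    rw [show Φ (algebraMap A P' a) = φ a from congr($hΦ a)]
    exact congr($(hΨ (pk a)) ⟨a, hpk a⟩)
  refine ⟨fun x => ?_, fun t y hy => ?_⟩
  · obtain ⟨t, y, hy⟩ := DirectLimit.exists_eq_mk _ (Φ x)
    exact ⟨t, y, (congrArg Ψbar hy).symm.trans congr($hinv x)⟩
  · have h1 : of t y = of t 0 := by
      rw [map_zero, ← hΦΨ t, RingHom.comp_apply, hy, map_zero]
    obtain ⟨t', h, h', he⟩ := Quotient.exact h1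
    exact ⟨t', h, he.trans (map_zero _)⟩

end Colimit

section Main

variable {A : Type u} [CommRing A] {I : Ideal A}

theorem exists_isAway (I : Ideal A) (g : A) :
    ∃ (P : Type u) (_ : CommRing P) (_ : Algebra A P), IsAway I g P := by
  let L := Localization.Away g
  let _ : Algebra A (PHs (I.map (algebraMap A L))) :=
    ((algebraMap L _).comp (algebraMap A L)).toAlgebra
  have : IsScalarTower A L (PHs (I.map (algebraMap A L))) := IsScalarTower.of_algebraMap_eq' rfl
  exact ⟨PHs (I.map (algebraMap A L)), inferInstance, inferInstance, isAway_of_pair PHs.isPairHenselization⟩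

/-- Gluing for data coming from a noetherian ring mapping to `A`. -/
theorem exists_glue_of_noetherian_base {R : Type u} [CommRing R] [IsNoetherianRing R] (f : R →+* A)
    (I₀ : Ideal R) (hI₀ : I₀.map f ≤ I) {ι : Type v} (g₀ : ι → R)
    (hcov : I₀ ⊔ Ideal.span (Set.range g₀) = ⊤)
    {H : Type u} [CommRing H] [Algebra A H] (hH : Hens2.IsPairHenselization A I H)
    (Ps : ι → Type u) [∀ i, CommRing (Ps i)] [∀ i, Algebra A (Ps i)]
    (hP : ∀ i, IsAway I (f (g₀ i)) (Ps i)) (ρ : ∀ i, H →ₐ[A] Ps i)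
    (P : ι → Type u) [∀ i, CommRing (P i)] [∀ i, Algebra R (P i)] (hPt : ∀ i, IsAway I₀ (g₀ i) (P i))
    (Q : ι → ι → Type u) [∀ i j, CommRing (Q i j)] [∀ i j, Algebra R (Q i j)]
    (hQt : ∀ i j, IsAway I₀ (g₀ i * g₀ j) (Q i j))
    (σt : ∀ i j, P i →+* Q i j) (hσt : ∀ i j, (σt i j).comp (algebraMap R (P i)) = algebraMap R (Q i j))
    (τt : ∀ i j, P j →+* Q i j) (hτt : ∀ i j, (τt i j).comp (algebraMap R (P j)) = algebraMap R (Q i j))
    (ΨP : ∀ i, P i →+* Ps i) (hΨP : ∀ i, (ΨP i).comp (algebraMap R (P i)) = (algebraMap A (Ps i)).comp f)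
    (y : ∀ i, P i) (hy : ∀ i j, σt i j (y i) = τt i j (y j)) :
    ∃ x : H, ∀ i, ρ i x = ΨP i (y i) := by
  let H₀ := PHs I₀
  have : IsNoetherianRing H₀ := HensH7.isNoetherianRing_pHs
  have hle : ∀ {C : Type u} [CommRing C] [Algebra A C],
      I₀.map ((algebraMap A C).comp f) ≤ I.map (algebraMap A C) :=
    fun {C} _ _ => by rw [← Ideal.map_map]; exact Ideal.map_mono hI₀
  have hH₀ : Hens2.IsPairHenselization R I₀ H₀ := PHs.isPairHenselization
  choose ρP hρP _hρPu using fun i => hH₀.2 (P i) (I₀.map (algebraMap R (P i)))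
    (algebraMap R (P i)) (hPt i).2.1 le_rfl
  choose ρQ hρQ hρQu using fun i j => hH₀.2 (Q i j) (I₀.map (algebraMap R (Q i j)))
    (algebraMap R (Q i j)) (hQt i j).2.1 le_rfl
  let _ : ∀ i, Algebra H₀ (P i) := fun i => (ρP i).toAlgebra
  let _ : ∀ i j, Algebra H₀ (Q i j) := fun i j => (ρQ i j).toAlgebra
  have : ∀ i, IsScalarTower R H₀ (P i) := fun i => IsScalarTower.of_algebraMap_eq' (hρP i).symm
  have : ∀ i j, IsScalarTower R H₀ (Q i j) := fun i j =>
    IsScalarTower.of_algebraMap_eq' (hρQ i j).symm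
  have hσH : ∀ i j, (σt i j).comp (ρP i) = ρQ i j := fun i j => hρQu i j _ (by
    show (RingHom.comp _ _).comp _ = _
    rw [RingHom.comp_assoc, hρP, hσt])
  have hτH : ∀ i j, (τt i j).comp (ρP j) = ρQ i j := fun i j => hρQu i j _ (by
    show (RingHom.comp _ _).comp _ = _
    rw [RingHom.comp_assoc, hρP, hτt])
  have hcov₀ : I₀.map (algebraMap R H₀) ⊔ Ideal.span (Set.range (algebraMap R H₀ ∘ g₀)) = ⊤ := by
    rw [Set.range_comp, ← Ideal.map_span, ← Ideal.map_sup, hcov, Ideal.map_top]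
  obtain ⟨x₀, hx₀⟩ := good_of_noetherian (H := H₀) P Q
    (fun i j => { σt i j with commutes' := fun x => congr($(hσH i j) x) })
    (fun i j => { τt i j with commutes' := fun x => congr($(hτH i j) x) })
    hH₀.1 _ hcov₀ (fun i => isAway_of_henselization hH₀ (hPt i))
    (fun i j => by
      simp only [Function.comp_apply]
      rw [← map_mul]
      exact isAway_of_henselization hH₀ (hQt i j)) ⊥ y
    (fun i j => by
      rw [Ideal.map_bot, Ideal.mem_bot]
      exact sub_eq_zero.mpr (hy i j))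
  obtain ⟨χ, hχ, -⟩ := hH₀.2 H (I.map (algebraMap A H)) ((algebraMap A H).comp f) hH.1 hle
  refine ⟨χ x₀, fun i => ?_⟩
  have h1 : (ρ i).toRingHom.comp χ = (ΨP i).comp (ρP i) := by
    refine (hH₀.2 (Ps i) (I.map (algebraMap A (Ps i))) ((algebraMap A (Ps i)).comp f)
      (hP i).2.1 hle).unique ?_ ?_
    · show (RingHom.comp _ _).comp _ = _
      rw [RingHom.comp_assoc, hχ, ← RingHom.comp_assoc]
      exact congrArg (fun h : A →+* Ps i => h.comp f) (ρ i).comp_algebraMap
    · show (RingHom.comp _ _).comp _ = _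
      rw [RingHom.comp_assoc, hρP, hΨP]
  have h2 := hx₀ i
  rw [Ideal.map_bot, Ideal.mem_bot, sub_eq_zero] at h2
  rw [show ρ i (χ x₀) = _ from congr($h1 x₀), RingHom.comp_apply, show ρP i x₀ = y i from h2]

theorem exists_glue_finite {T : Type u} [Preorder T] [IsDirectedOrder T] [Nonempty T]
    (S : T → Subalgebra ℤ A) (hS : Monotone S) (hcovS : ∀ a : A, ∃ t, a ∈ S t)
    [∀ t, IsNoetherianRing (S t)] {ι : Type v} [Finite ι] (g : ι → A) (hgS : ∀ t i, g i ∈ S t)
    (hcov : ∀ t, I.comap (S t).val ⊔ Ideal.span (Set.range fun i => (⟨g i, hgS t i⟩ : S t)) = ⊤)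
    {H : Type u} [CommRing H] [Algebra A H] (hH : Hens2.IsPairHenselization A I H)
    (Ps : ι → Type u) [∀ i, CommRing (Ps i)] [∀ i, Algebra A (Ps i)]
    (hP : ∀ i, IsAway I (g i) (Ps i))
    (Qs : ι → ι → Type u) [∀ i j, CommRing (Qs i j)] [∀ i j, Algebra A (Qs i j)]
    (hQ : ∀ i j, IsAway I (g i * g j) (Qs i j))
    (ρ : ∀ i, H →ₐ[A] Ps i) (σ : ∀ i j, Ps i →ₐ[A] Qs i j) (τ : ∀ i j, Ps j →ₐ[A] Qs i j)
    (s : ∀ i, Ps i) (hs : ∀ i j, σ i j (s i) = τ i j (s j)) :
    ∃ x : H, ∀ i, ρ i x = s i := by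
  classical
  cases nonempty_fintype ι
  have hggS : ∀ t i j, g i * g j ∈ S t := fun t i j => mul_mem (hgS t i) (hgS t j)
  choose P iP aP hPt using fun (i : ι) (t : T) =>
    exists_isAway (I.comap (S t).val) (⟨g i, hgS t i⟩ : S t)
  choose Q iQ aQ hQt using fun (i j : ι) (t : T) =>
    exists_isAway (I.comap (S t).val) (⟨g i * g j, hggS t i j⟩ : S t)
  have hle : ∀ t {C : Type u} [CommRing C] [Algebra A C],
      (I.comap (S t).val).map ((algebraMap A C).comp (S t).val.toRingHom) ≤ I.map (algebraMap A C) :=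
    fun t {C} _ _ => by rw [← Ideal.map_map]; exact Ideal.map_mono Ideal.map_comap_le
  have hle' : ∀ t t' (h : t ≤ t') {C : Type u} [CommRing C] [Algebra (S t') C],
      (I.comap (S t).val).map ((algebraMap (S t') C).comp (Subalgebra.inclusion (hS h)).toRingHom) ≤
        (I.comap (S t').val).map (algebraMap (S t') C) :=
    fun t t' h {C} _ _ => by
      rw [← Ideal.map_map]
      exact Ideal.map_mono (Ideal.map_le_iff_le_comap.mpr fun a ha => ha)
  choose ΨP hΨP hΨPu using fun i t => (hPt i t).2.2 (Ps i) (I.map (algebraMap A (Ps i)))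
    ((algebraMap A (Ps i)).comp (S t).val.toRingHom) (hP i).2.1 (hle t) (hP i).1
  choose trP htrP htrPu using fun i t t' (h : t ≤ t') => (hPt i t).2.2 (P i t')
    ((I.comap (S t').val).map (algebraMap (S t') (P i t')))
    ((algebraMap (S t') (P i t')).comp (Subalgebra.inclusion (hS h)).toRingHom) (hPt i t').2.1
    (hle' t t' h) (hPt i t').1
  choose ΨQ hΨQ hΨQu using fun i j t => (hQt i j t).2.2 (Qs i j) (I.map (algebraMap A (Qs i j)))
    ((algebraMap A (Qs i j)).comp (S t).val.toRingHom) (hQ i j).2.1 (hle t) (hQ i j).1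
  choose trQ htrQ htrQu using fun i j t t' (h : t ≤ t') => (hQt i j t).2.2 (Q i j t')
    ((I.comap (S t').val).map (algebraMap (S t') (Q i j t')))
    ((algebraMap (S t') (Q i j t')).comp (Subalgebra.inclusion (hS h)).toRingHom) (hQt i j t').2.1
    (hle' t t' h) (hQt i j t').1
  have hu : ∀ i j t, IsUnit (algebraMap (S t) (Q i j t) ⟨g i, hgS t i⟩) ∧
      IsUnit (algebraMap (S t) (Q i j t) ⟨g j, hgS t j⟩) := fun i j t => by
    have h := (hQt i j t).1
    rw [show (⟨g i * g j, hggS t i j⟩ : S t) = ⟨g i, hgS t i⟩ * ⟨g j, hgS t j⟩ from rfl, map_mul,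
      IsUnit.mul_iff] at h
    exact h
  have hu' : ∀ i j, IsUnit (algebraMap A (Qs i j) (g i)) ∧ IsUnit (algebraMap A (Qs i j) (g j)) :=
    fun i j => by
      have h := (hQ i j).1
      rwa [map_mul, IsUnit.mul_iff] at h
  choose σt hσt _hσtu using fun i j t => (hPt i t).2.2 (Q i j t)
    ((I.comap (S t).val).map (algebraMap (S t) (Q i j t))) (algebraMap (S t) (Q i j t)) (hQt i j t).2.1
    le_rfl (hu i j t).1
  choose τt hτt _hτtu using fun i j t => (hPt j t).2.2 (Q i j t)
    ((I.comap (S t).val).map (algebraMap (S t) (Q i j t))) (algebraMap (S t) (Q i j t)) (hQt i j t).2.1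
    le_rfl (hu i j t).2
  have hΨσ : ∀ i j t, (σ i j).toRingHom.comp (ΨP i t) = (ΨQ i j t).comp (σt i j t) := fun i j t => by
    refine ((hPt i t).2.2 (Qs i j) (I.map (algebraMap A (Qs i j)))
      ((algebraMap A (Qs i j)).comp (S t).val.toRingHom) (hQ i j).2.1 (hle t) (hu' i j).1).unique ?_ ?_
    · show ((σ i j).toRingHom.comp _).comp _ = _
      rw [RingHom.comp_assoc, hΨP, ← RingHom.comp_assoc]
      exact congrArg (fun f : A →+* Qs i j => f.comp (S t).val.toRingHom) (σ i j).comp_algebraMap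
    · show ((ΨQ i j t).comp _).comp _ = _
      rw [RingHom.comp_assoc, hσt, hΨQ]
  have hΨτ : ∀ i j t, (τ i j).toRingHom.comp (ΨP j t) = (ΨQ i j t).comp (τt i j t) := fun i j t => by
    refine ((hPt j t).2.2 (Qs i j) (I.map (algebraMap A (Qs i j)))
      ((algebraMap A (Qs i j)).comp (S t).val.toRingHom) (hQ i j).2.1 (hle t) (hu' i j).2).unique ?_ ?_
    · show ((τ i j).toRingHom.comp _).comp _ = _
      rw [RingHom.comp_assoc, hΨP, ← RingHom.comp_assoc]
      exact congrArg (fun f : A →+* Qs i j => f.comp (S t).val.toRingHom) (τ i j).comp_algebraMap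
    · show ((ΨQ i j t).comp _).comp _ = _
      rw [RingHom.comp_assoc, hτt, hΨQ]
  have htrσ : ∀ i j t t' h, (trQ i j t t' h).comp (σt i j t) = (σt i j t').comp (trP i t t' h) :=
    fun i j t t' h => by
    refine ((hPt i t).2.2 (Q i j t') ((I.comap (S t').val).map (algebraMap (S t') (Q i j t')))
      ((algebraMap (S t') (Q i j t')).comp (Subalgebra.inclusion (hS h)).toRingHom) (hQt i j t').2.1
      (hle' t t' h) (hu i j t').1).unique ?_ ?_
    · show ((trQ i j t t' h).comp _).comp _ = _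
      rw [RingHom.comp_assoc, hσt, htrQ]
    · show ((σt i j t').comp _).comp _ = _
      rw [RingHom.comp_assoc, htrP, ← RingHom.comp_assoc, hσt]
  have htrτ : ∀ i j t t' h, (trQ i j t t' h).comp (τt i j t) = (τt i j t').comp (trP j t t' h) :=
    fun i j t t' h => by
    refine ((hPt j t).2.2 (Q i j t') ((I.comap (S t').val).map (algebraMap (S t') (Q i j t')))
      ((algebraMap (S t') (Q i j t')).comp (Subalgebra.inclusion (hS h)).toRingHom) (hQt i j t').2.1
      (hle' t t' h) (hu i j t').2).unique ?_ ?_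
    · show ((trQ i j t t' h).comp _).comp _ = _
      rw [RingHom.comp_assoc, hτt, htrQ]
    · show ((τt i j t').comp _).comp _ = _
      rw [RingHom.comp_assoc, htrP, ← RingHom.comp_assoc, hτt]
  have hΨtrP : ∀ i t t' h, (ΨP i t').comp (trP i t t' h) = ΨP i t := fun i t t' h => by
    refine hΨPu i t _ ?_
    show ((ΨP i t').comp _).comp _ = _
    rw [RingHom.comp_assoc, htrP, ← RingHom.comp_assoc, hΨP]
    rfl
  have stP := fun i => exists_stage S hS hcovS I (g i) (fun t => hgS t i) (P i) (hPt i) (hP i)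
    (ΨP i) (hΨP i) (trP i) (htrP i)
  have stQ := fun i j => exists_stage S hS hcovS I (g i * g j) (fun t => hggS t i j) (Q i j) (hQt i j)
    (hQ i j) (ΨQ i j) (hΨQ i j) (trQ i j) (htrQ i j)
  choose t₀ y₀ hy₀ using fun i => (stP i).1 (s i)
  obtain ⟨t₁, ht₁⟩ := Finset.exists_le (Finset.univ.image t₀)
  let y₁ : ∀ i, P i t₁ := fun i => trP i (t₀ i) t₁ (ht₁ _ (Finset.mem_image_of_mem _ (Finset.mem_univ i))) (y₀ i)
  have hy₁ : ∀ i, ΨP i t₁ (y₁ i) = s i := fun i => (congr($(hΨtrP i (t₀ i) t₁ _) (y₀ i))).trans (hy₀ i)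
  have hd : ∀ i j, ΨQ i j t₁ (σt i j t₁ (y₁ i) - τt i j t₁ (y₁ j)) = 0 := fun i j => by
    rw [map_sub, show ΨQ i j t₁ (σt i j t₁ (y₁ i)) = _ from congr($(hΨσ i j t₁) (y₁ i)).symm,
      show ΨQ i j t₁ (τt i j t₁ (y₁ j)) = _ from congr($(hΨτ i j t₁) (y₁ j)).symm]
    show σ i j (ΨP i t₁ (y₁ i)) - τ i j (ΨP j t₁ (y₁ j)) = 0
    rw [hy₁, hy₁, hs, sub_self]
  choose t₂ h₁₂ hz using fun i j => (stQ i j).2 t₁ _ (hd i j)
  obtain ⟨t, ht⟩ := Finset.exists_le (insert t₁ (Finset.univ.image fun p : ι × ι => t₂ p.1 p.2))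
  have ht₁t : t₁ ≤ t := ht _ (Finset.mem_insert_self _ _)
  let y : ∀ i, P i t := fun i => trP i t₁ t ht₁t (y₁ i)
  have hcomp : ∀ i j, σt i j t (y i) = τt i j t (y j) := fun i j => by
    have h2 : t₂ i j ≤ t := ht _ (Finset.mem_insert_of_mem
      (Finset.mem_image.mpr ⟨(i, j), Finset.mem_univ _, rfl⟩))
    have h3 : (trQ i j (t₂ i j) t h2).comp (trQ i j t₁ (t₂ i j) (h₁₂ i j)) = trQ i j t₁ t ht₁t := by
      refine htrQu i j t₁ t ht₁t _ ?_
      show (RingHom.comp _ _).comp _ = _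
      rw [RingHom.comp_assoc, htrQ, ← RingHom.comp_assoc, htrQ]
      rfl
    have h4 : trQ i j t₁ t ht₁t (σt i j t₁ (y₁ i) - τt i j t₁ (y₁ j)) = 0 := by
      rw [← h3, RingHom.comp_apply, hz, map_zero]
    rw [map_sub, sub_eq_zero, show trQ i j t₁ t ht₁t (σt i j t₁ (y₁ i)) = _ from
      congr($(htrσ i j t₁ t ht₁t) (y₁ i)), show trQ i j t₁ t ht₁t (τt i j t₁ (y₁ j)) = _ from
      congr($(htrτ i j t₁ t ht₁t) (y₁ j))] at h4
    exact h4
  obtain ⟨x, hx⟩ := exists_glue_of_noetherian_base (I := I) (S t).val.toRingHom (I.comap (S t).val)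
    Ideal.map_comap_le (fun i => ⟨g i, hgS t i⟩) (hcov t) hH Ps hP ρ (fun i => P i t) (fun i => hPt i t)
    (fun i j => Q i j t) (fun i j => hQt i j t) (fun i j => σt i j t) (fun i j => hσt i j t)
    (fun i j => τt i j t) (fun i j => hτt i j t) (fun i => ΨP i t) (fun i => hΨP i t) y hcomp
  exact ⟨x, fun i => (hx i).trans ((congr($(hΨtrP i t₁ t ht₁t) (y₁ i))).trans (hy₁ i))⟩

/-- The sheaf condition for henselizations along a covering by basic opens. -/
theorem exists_glue {ι : Type v} (g : ι → A) (hcov : I ⊔ Ideal.span (Set.range g) = ⊤)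
    {H : Type u} [CommRing H] [Algebra A H] (hH : Hens2.IsPairHenselization A I H)
    (Ps : ι → Type u) [∀ i, CommRing (Ps i)] [∀ i, Algebra A (Ps i)]
    (hP : ∀ i, IsAway I (g i) (Ps i))
    (Qs : ι → ι → Type u) [∀ i j, CommRing (Qs i j)] [∀ i j, Algebra A (Qs i j)]
    (hQ : ∀ i j, IsAway I (g i * g j) (Qs i j))
    (ρ : ∀ i, H →ₐ[A] Ps i) (σ : ∀ i j, Ps i →ₐ[A] Qs i j) (τ : ∀ i j, Ps j →ₐ[A] Qs i j) :
    (∀ x y : H, (∀ i, ρ i x = ρ i y) → x = y) ∧
    ∀ s : ∀ i, Ps i, (∀ i j, σ i j (s i) = τ i j (s j)) → ∃ x : H, ∀ i, ρ i x = s i := by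
  classical
  refine ⟨fun x y hxy => ?_, fun s hs => ?_⟩
  · let _ : ∀ i, Algebra H (Ps i) := fun i => (ρ i).toRingHom.toAlgebra
    have : ∀ i, IsScalarTower A H (Ps i) := fun i =>
      IsScalarTower.of_algebraMap_eq' (ρ i).comp_algebraMap.symm
    refine eq_of_forall hH.1.jac (fun i => algebraMap A H (g i)) ?_ Ps
      (fun i => isAway_of_henselization hH (hP i)) x y hxy
    rw [show (fun i => algebraMap A H (g i)) = algebraMap A H ∘ g from rfl, Set.range_comp,
      ← Ideal.map_span, ← Ideal.map_sup, hcov, Ideal.map_top]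
  obtain ⟨c, hc, d, hd, hcd⟩ := Submodule.mem_sup.mp (hcov ▸ Submodule.mem_top (x := (1 : A)))
  replace hd := Finsupp.mem_span_range_iff_exists_finsupp.mp hd
  obtain ⟨w, hw⟩ := hd
  let b : Finset A := insert c (w.support.image w ∪ w.support.image g)
  let S : Finset A → Subalgebra ℤ A := fun t => Algebra.adjoin ℤ (↑(b ∪ t) : Set A)
  have hbS : ∀ t, (↑b : Set A) ⊆ S t := fun t x hx => Algebra.subset_adjoin (by simp [hx])
  have : ∀ t, IsNoetherianRing (S t) := fun t => by
    have : Algebra.FiniteType ℤ (S t) := (Subalgebra.fg_iff_finiteType _).mp ⟨b ∪ t, rfl⟩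
    exact Algebra.FiniteType.isNoetherianRing ℤ _
  have hgS : ∀ t (i : w.support), g i ∈ S t := fun t i => hbS t
    (Finset.mem_insert_of_mem (Finset.mem_union_right _ (Finset.mem_image_of_mem _ i.2)))
  have hwS : ∀ t (i : w.support), w i ∈ S t := fun t i => hbS t
    (Finset.mem_insert_of_mem (Finset.mem_union_left _ (Finset.mem_image_of_mem _ i.2)))
  have hone : c + ∑ i : w.support, w i * g i = 1 := by
    rw [← hcd, ← hw, Finset.sum_coe_sort w.support fun i => w i * g i]
    rfl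
  have hcovt : ∀ t, I.comap (S t).val ⊔
      Ideal.span (Set.range fun i : w.support => (⟨g i, hgS t i⟩ : S t)) = ⊤ := fun t => by
    rw [Ideal.eq_top_iff_one]
    have h1 : (⟨c, hbS t (Finset.mem_insert_self _ _)⟩ : S t) +
        ∑ i : w.support, ⟨w i, hwS t i⟩ * ⟨g i, hgS t i⟩ = 1 := Subtype.ext (by
      push_cast
      exact hone)
    rw [← h1]
    exact Submodule.add_mem_sup hc
      (Ideal.sum_mem _ fun i _ => Ideal.mul_mem_left _ _ (Ideal.subset_span ⟨i, rfl⟩))
  obtain ⟨x, hx⟩ := exists_glue_finite (I := I) S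
    (fun t t' h => Algebra.adjoin_mono (Finset.coe_subset.mpr (Finset.union_subset_union_right h)))
    (fun a => ⟨{a}, Algebra.subset_adjoin (by simp)⟩) (fun i : w.support => g i) hgS hcovt
    hH (fun i => Ps i) (fun i => hP i) (fun i j => Qs i j) (fun i j => hQ i j) (fun i => ρ i)
    (fun i j => σ i j) (fun i j => τ i j) (fun i => s i) (fun i j => hs i j)
  refine ⟨x, fun j => ?_⟩
  let _ : ∀ k : w.support, Algebra (Ps j) (Qs k j) := fun k => (τ k j).toRingHom.toAlgebra
  have : ∀ k : w.support, IsScalarTower A (Ps j) (Qs k j) := fun k =>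
    IsScalarTower.of_algebraMap_eq' (τ k j).comp_algebraMap.symm
  refine eq_of_forall (hP j).2.1.jac (fun k : w.support => algebraMap A (Ps j) (g k)) ?_
    (fun k : w.support => Qs k j) (fun k => isAway_over (hP j) (hQ k j) rfl) _ _ fun k => ?_
  · rw [Ideal.eq_top_iff_one, ← map_one (algebraMap A (Ps j)), ← hcd, ← hw, map_add, Finsupp.sum, map_sum]
    refine Submodule.add_mem_sup (Ideal.mem_map_of_mem _ hc) (Ideal.sum_mem _ fun i hi => ?_)
    rw [smul_eq_mul, map_mul]
    exact Ideal.mul_mem_left _ _ (Ideal.subset_span ⟨⟨i, hi⟩, rfl⟩)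
  show τ k j (ρ j x) = τ k j (s j)
  rw [← hs k j, ← hx k]
  let J := I.map (algebraMap A (Qs k j))
  obtain ⟨h, -, hu⟩ := hH.2 (Qs k j) J (algebraMap A (Qs k j)) (hQ k j).2.1 le_rfl
  exact congr($((hu ((τ k j).toRingHom.comp (ρ j).toRingHom) ((τ k j).comp (ρ j)).comp_algebraMap).trans
    (hu ((σ k j).toRingHom.comp (ρ k).toRingHom) ((σ k j).comp (ρ k)).comp_algebraMap).symm) x)

end Main

end Groth.Agent.HensGlue6
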